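import Cfsg.Prelude.Def_Transfer
import Cfsg.Agent.Cores.PCore
import Cfsg.Agent.Thompson.BaerSuzuki
import Cfsg.Agent.FusionSys.StronglyEmbedded

/-!
# Groups in which subgroups of equal order are conjugate: the centralizers of involutions
-/

set_option autoImplicit false
set_option linter.style.haveILetI false

namespace Cfsg.Agent.H80.EqualOrder

open Subgroup Cfsg

universe u

variable {G : Type u} [Group G] [Finite G]

/-- Any two subgroups of the same order are conjugate. -/
def EqOrd (G : Type u) [Group G] : Prop :=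
  ∀ H K : Subgroup G, Nat.card H = Nat.card K → ∃ g : G, K = H.map (MulAut.conj g).toMonoidHom

theorem EqOrd.quotient (h : EqOrd G) (N : Subgroup G) [N.Normal] : EqOrd (G ⧸ N) := by
  intro H K hHK
  let π := QuotientGroup.mk' N
  have hπ : Function.Surjective π := QuotientGroup.mk'_surjective N
  have hidx : (H.comap π).index = (K.comap π).index := by
    rw [index_comap_of_surjective _ hπ, index_comap_of_surjective _ hπ]
    refine Nat.eq_of_mul_eq_mul_left (Nat.card_pos (α := H)) ?_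
    rw [card_mul_index, hHK, card_mul_index]
  have hc : Nat.card ↥(H.comap π) = Nat.card ↥(K.comap π) := by
    refine Nat.eq_of_mul_eq_mul_right (Nat.pos_of_ne_zero (index_ne_zero_of_finite (H := H.comap π))) ?_
    rw [card_mul_index, hidx, card_mul_index]
  obtain ⟨g, hg⟩ := h _ _ hc
  refine ⟨π g, ?_⟩
  conv_lhs => rw [← map_comap_eq_self_of_surjective hπ K, hg]
  conv_rhs => rw [← map_comap_eq_self_of_surjective hπ H]
  rw [Subgroup.map_map, Subgroup.map_map]
  congr 1

omit [Finite G] in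
theorem eq_or_of_mem_zpowers {t x : G} (ht : t ^ 2 = 1) (hx : x ∈ zpowers t) : x = 1 ∨ x = t := by
  obtain ⟨k, rfl⟩ := mem_zpowers_iff.1 hx
  rcases Int.even_or_odd k with ⟨j, rfl⟩ | ⟨j, rfl⟩
  · left; rw [← two_mul, zpow_mul, show (t ^ (2 : ℤ)) = 1 from (zpow_natCast t 2).trans ht, one_zpow]
  · right; rw [zpow_add_one, zpow_mul, show (t ^ (2 : ℤ)) = 1 from (zpow_natCast t 2).trans ht,
      one_zpow, one_mul]

/-- For every prime, any two `p`-subgroups of the same order are conjugate. -/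
def EqPOrd (G : Type u) [Group G] : Prop :=
  ∀ p : ℕ, p.Prime → ∀ H K : Subgroup G, IsPGroup p H → IsPGroup p K → Nat.card H = Nat.card K →
    ∃ g : G, K = H.map (MulAut.conj g).toMonoidHom

omit [Finite G] in
theorem EqOrd.primary (h : EqOrd G) : EqPOrd G := fun _ _ H K _ _ hHK => h H K hHK

/-- A `p`-subgroup of a quotient is the image of a Sylow subgroup of its preimage. -/
theorem exists_lift (N : Subgroup G) [N.Normal] {p : ℕ} [Fact p.Prime] (H : Subgroup (G ⧸ N))
    (hH : IsPGroup p H) :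
    ∃ P : Subgroup G, IsPGroup p P ∧ P.map (QuotientGroup.mk' N) = H ∧
      Nat.card P = p ^ (Nat.card ↥(H.comap (QuotientGroup.mk' N))).factorization p := by
  let π := QuotientGroup.mk' N
  let M := H.comap π
  obtain ⟨T⟩ : Nonempty (Sylow p ↥M) := inferInstance
  refine ⟨(T : Subgroup ↥M).map M.subtype, T.isPGroup'.map _, ?_, ?_⟩
  · let f : ↥M →* ↥H := π.subgroupComap H
    have hf : Function.Surjective f :=
      π.subgroupComap_surjective_of_surjective H (QuotientGroup.mk'_surjective N)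
    have htop : ((T.mapSurjective hf : Sylow p ↥H) : Subgroup ↥H) = ⊤ :=
      ((T.mapSurjective hf).is_maximal' (hH.to_subgroup ⊤) le_top).symm
    refine le_antisymm ?_ fun x hx => ?_
    · rintro _ ⟨_, ⟨m, -, rfl⟩, rfl⟩
      exact m.2
    · obtain ⟨m, hm, hmx⟩ :
          (⟨x, hx⟩ : ↥H) ∈ ((T.mapSurjective hf : Sylow p ↥H) : Subgroup ↥H) := htop ▸ mem_top _
      exact ⟨m, ⟨m, hm, rfl⟩, congrArg Subtype.val hmx⟩
  · rw [card_map_of_injective M.subtype_injective, T.card_eq_multiplicity]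

theorem EqPOrd.quotient (h : EqPOrd G) (N : Subgroup G) [N.Normal] : EqPOrd (G ⧸ N) := by
  intro p hp H K hH hK hHK
  haveI : Fact p.Prime := ⟨hp⟩
  let π := QuotientGroup.mk' N
  have hπ : Function.Surjective π := QuotientGroup.mk'_surjective N
  have hidx : (H.comap π).index = (K.comap π).index := by
    rw [index_comap_of_surjective _ hπ, index_comap_of_surjective _ hπ]
    refine Nat.eq_of_mul_eq_mul_left (Nat.card_pos (α := H)) ?_
    rw [card_mul_index, hHK, card_mul_index]
  have hc : Nat.card ↥(H.comap π) = Nat.card ↥(K.comap π) := by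
    refine Nat.eq_of_mul_eq_mul_right (Nat.pos_of_ne_zero (index_ne_zero_of_finite (H := H.comap π))) ?_
    rw [card_mul_index, hidx, card_mul_index]
  obtain ⟨A, hA, rfl, hAc⟩ := exists_lift N H hH
  obtain ⟨B, hB, rfl, hBc⟩ := exists_lift N K hK
  obtain ⟨g, rfl⟩ := h p hp A B hA hB (by rw [hAc, hBc, hc])
  refine ⟨π g, ?_⟩
  rw [Subgroup.map_map, Subgroup.map_map]
  congr 1

/-- All involutions are conjugate. -/
theorem EqPOrd.exists_conj (h : EqPOrd G) {t s : G} (ht : orderOf t = 2) (hs : orderOf s = 2) :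
    ∃ g : G, g * t * g⁻¹ = s := by
  obtain ⟨g, hg⟩ := h 2 Nat.prime_two (zpowers t) (zpowers s)
    (IsPGroup.of_card (n := 1) (by rw [Nat.card_zpowers, ht, pow_one]))
    (IsPGroup.of_card (n := 1) (by rw [Nat.card_zpowers, hs, pow_one]))
    (by rw [Nat.card_zpowers, Nat.card_zpowers, ht, hs])
  refine ⟨g, ?_⟩
  have hm : g * t * g⁻¹ ∈ zpowers s := hg ▸ ⟨t, mem_zpowers t, rfl⟩
  rcases eq_or_of_mem_zpowers (by rw [← hs, pow_orderOf_eq_one]) hm with h1 | h1
  · rw [conj_eq_one_iff] at h1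
    rw [h1, orderOf_one] at ht; omega
  · exact h1

omit [Finite G] in
theorem card_sup_of_disjoint {A K : Subgroup G} (hn : K ≤ normalizer (A : Set G))
    (hd : Disjoint A K) : Nat.card ↥(A ⊔ K) = Nat.card A * Nat.card K := by
  rw [← Nat.card_prod]
  refine (Nat.card_congr (Equiv.ofBijective
    (fun p : A × K => (⟨(p.1 : G) * p.2, mul_mem_sup p.1.2 p.2.2⟩ : ↥(A ⊔ K))) ⟨?_, ?_⟩)).symm
  · intro p q hpq
    exact mul_injective_of_disjoint hd (Subtype.ext_iff.1 hpq)
  · rintro ⟨g, hg⟩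
    rw [← SetLike.mem_coe, coe_mul_of_right_le_normalizer_left A K hn] at hg
    obtain ⟨a, ha, k, hk, e⟩ := hg
    exact ⟨(⟨a, ha⟩, ⟨k, hk⟩), Subtype.ext e⟩

/-- An element of odd order commuting with an involution `t` is inverted by no involution
commuting with `t`. -/
theorem EqOrd.no_inverted (h : EqOrd G) {t s x : G} (ht : orderOf t = 2) (hs : orderOf s = 2)
    (hx : Odd (orderOf x)) (htx : Commute x t) (hinv : s * x * s⁻¹ = x⁻¹) : x = 1 := by
  have hco : (orderOf x).Coprime 2 := Nat.coprime_two_right.2 hx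
  have hn : zpowers s ≤ normalizer (zpowers x : Set G) := by
    rw [zpowers_le, mem_normalizer_iff_map_conj_eq, MonoidHom.map_zpowers]
    show zpowers (s * x * s⁻¹) = zpowers x
    rw [hinv, zpowers_inv]
  have hd : Disjoint (zpowers x) (zpowers s) := by
    refine disjoint_of_coprime_natCard ?_
    rw [Nat.card_zpowers, Nat.card_zpowers, hs]
    exact hco
  have hA : Nat.card (zpowers (x * t)) = Nat.card ↥(zpowers x ⊔ zpowers s) := by
    rw [card_sup_of_disjoint hn hd, Nat.card_zpowers, Nat.card_zpowers, Nat.card_zpowers,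
      htx.orderOf_mul_eq_mul_orderOf_of_coprime (by rwa [ht]), ht, hs]
  obtain ⟨g, hg⟩ := h _ _ hA
  obtain ⟨a, ha, hag⟩ : s ∈ (zpowers (x * t)).map (MulAut.conj g).toMonoidHom :=
    hg ▸ mem_sup_right (mem_zpowers s)
  obtain ⟨b, hb, hbg⟩ : x ∈ (zpowers (x * t)).map (MulAut.conj g).toMonoidHom :=
    hg ▸ mem_sup_left (mem_zpowers x)
  have hab : Commute a b := by
    obtain ⟨i, rfl⟩ := mem_zpowers_iff.1 ha
    obtain ⟨j, rfl⟩ := mem_zpowers_iff.1 hb
    exact Commute.zpow_zpow_self _ i j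
  have hsx : s * x * s⁻¹ = x := by
    rw [← hag, ← hbg]
    exact mul_inv_eq_iff_eq_mul.2 ((hab.map _).eq)
  rw [hinv, inv_eq_iff_mul_eq_one, ← sq] at hsx
  exact orderOf_eq_one_iff.1 (Nat.eq_one_of_dvd_coprimes hco dvd_rfl (orderOf_dvd_of_pow_eq_one hsx))

omit [Finite G] in
theorem isPGroup_zpowers {x : G} {a : ℕ} (h : x ^ (2 ^ a) = 1) : IsPGroup 2 (zpowers x) := by
  obtain ⟨k, -, hk⟩ := (Nat.dvd_prime_pow Nat.prime_two).1 (orderOf_dvd_of_pow_eq_one h)
  exact IsPGroup.of_card (n := k) (by rw [Nat.card_zpowers, hk])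

/-- With an elementary abelian Sylow subgroup `S`, the centralizer of an involution of `S`
normalizes `S`. -/
theorem EqOrd.centralizer_le (h : EqOrd G) (S : Sylow 2 G)
    (hel : IsElementaryAbelian 2 (S : Subgroup G)) {t : G} (htS : t ∈ (S : Subgroup G))
    (ht : orderOf t = 2) :
    centralizer ({t} : Set G) ≤ normalizer ((S : Subgroup G) : Set G) := by
  haveI : Fact (Nat.Prime 2) := ⟨Nat.prime_two⟩
  haveI : IsMulCommutative (S : Subgroup G) := hel.1
  set C := centralizer ({t} : Set G)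
  have hSC : (S : Subgroup G) ≤ C := fun x hx => mem_centralizer_singleton_iff.2
    (congrArg Subtype.val (mul_comm' (⟨x, hx⟩ : (S : Subgroup G)) ⟨t, htS⟩))
  have hN : ∀ u : C, u ^ 2 = 1 → ∃ N : Subgroup C, N.Normal ∧ IsPGroup 2 N ∧ u ∈ N := by
    intro u hu
    refine Thompson.baer_suzuki fun g => ?_
    set v := g * u * g⁻¹ with hv
    have hv2 : v ^ 2 = 1 := by rw [hv, conj_pow, hu, mul_one, mul_inv_cancel]
    have hui : u⁻¹ = u := inv_eq_of_mul_eq_one_right (by rw [← sq, hu])
    have hvi : v⁻¹ = v := inv_eq_of_mul_eq_one_right (by rw [← sq, hv2])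
    set y := u * v with hy
    have huy : u * y * u⁻¹ = y⁻¹ := by
      rw [hy, hui, mul_inv_rev, hui, hvi, ← mul_assoc, ← sq u, hu, one_mul]
    obtain ⟨a, m, hm, hym⟩ := Nat.exists_eq_two_pow_mul_odd (orderOf_pos y).ne'
    have hy1 : y ^ (2 ^ a) = 1 := by
      by_cases hu1 : u = 1
      · have hv1 : v = 1 := by rw [hv, hu1, mul_one, mul_inv_cancel]
        rw [hy, hu1, hv1, one_mul, one_pow]
      refine Subtype.ext (h.no_inverted (s := (u : G)) ht ?_ ?_ ?_ ?_)
      · rw [Subgroup.orderOf_coe]; exact orderOf_eq_prime hu hu1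
      · rw [Subgroup.orderOf_coe, orderOf_pow_of_dvd (by positivity) (hym ▸ dvd_mul_right _ _),
          hym, Nat.mul_div_cancel_left _ (by positivity)]
        exact hm
      · exact mem_centralizer_singleton_iff.1 (y ^ (2 ^ a)).2
      · have h1 : u * y ^ (2 ^ a) * u⁻¹ = (y ^ (2 ^ a))⁻¹ := by rw [← conj_pow, huy, inv_pow]
        exact congrArg Subtype.val h1
    have hn : zpowers u ≤ normalizer (zpowers y : Set C) := by
      rw [zpowers_le, mem_normalizer_iff_map_conj_eq, MonoidHom.map_zpowers]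
      show zpowers (u * y * u⁻¹) = zpowers y
      rw [huy, zpowers_inv]
    refine (IsPGroup.to_sup_of_normal_right' (isPGroup_zpowers (a := 1) (by simpa using hu))
      (isPGroup_zpowers hy1) hn).to_le ((closure_le _).2 ?_)
    rintro z (rfl | rfl)
    · exact mem_sup_left (mem_zpowers _)
    · rw [SetLike.mem_coe, show v = u * y by rw [hy, ← mul_assoc, ← sq, hu, one_mul]]
      exact mul_mem (mem_sup_left (mem_zpowers _)) (mem_sup_right (mem_zpowers _))
  intro g hg
  refine mem_normalizer_fintype fun x hx => ?_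
  obtain ⟨N, hNn, hNp, hxN⟩ := hN ⟨x, hSC hx⟩
    (Subtype.ext (hel.2 x hx))
  have hle : N ≤ (S.subtype hSC : Subgroup C) := hNp.le_sylow_of_normal _
  have := hle (hNn.conj_mem _ hxN ⟨g, hg⟩)
  exact this

omit [Finite G] in
theorem orderOf_eq_two {A : Subgroup G} (hA : IsElementaryAbelian 2 A) {x : G} (hx : x ∈ A)
    (h1 : x ≠ 1) : orderOf x = 2 :=
  haveI : Fact (Nat.Prime 2) := ⟨Nat.prime_two⟩
  orderOf_eq_prime (hA.2 x hx) h1

/-- The normalizer of an elementary abelian Sylow subgroup is strongly embedded unless normal. -/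
theorem EqOrd.stronglyEmbedded (h : EqOrd G) (S : Sylow 2 G)
    (hel : IsElementaryAbelian 2 (S : Subgroup G)) (hS : (S : Subgroup G) ≠ ⊥)
    (hne : normalizer ((S : Subgroup G) : Set G) ≠ ⊤) :
    IsStronglyPEmbedded 2 (normalizer ((S : Subgroup G) : Set G)) := by
  haveI : Fact (Nat.Prime 2) := ⟨Nat.prime_two⟩
  haveI : IsMulCommutative (S : Subgroup G) := hel.1
  have h2 : 2 ∣ Nat.card G := by
    obtain ⟨x, hx, hx1⟩ := ((S : Subgroup G).bot_or_exists_ne_one).resolve_left hS
    exact orderOf_eq_two hel hx hx1 ▸ orderOf_dvd_natCard x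
  refine FusionSys.isStronglyPEmbedded_iff.2 ⟨h2, hne, S, fun R hR hR1 g hg => ?_⟩
  obtain ⟨r, hr, hr1⟩ := (R.bot_or_exists_ne_one).resolve_left hR1
  have hy : g * r * g⁻¹ ∈ (S : Subgroup G) := hR ((mem_normalizer_iff.1 hg r).1 hr)
  obtain ⟨m, hm, hmr⟩ := S.conj_eq_normalizer_conj_of_mem r g⁻¹ (hR hr) (by rwa [inv_inv])
  rw [inv_inv] at hmr
  have hmg : m * g ∈ centralizer ({r} : Set G) := mem_centralizer_singleton_iff.2 (by
    calc m * g * r = m * (g * r * g⁻¹) * g := by group
      _ = m * (m⁻¹ * r * m) * g := by rw [hmr]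
      _ = r * (m * g) := by group)
  have := mul_mem (inv_mem hm) (h.centralizer_le S hel (hR hr) (orderOf_eq_two hel (hR hr) hr1) hmg)
  rwa [← mul_assoc, inv_mul_cancel, one_mul] at this

/-- A normal subgroup which is a central extension of odd index over a 2-group `Z` reduces to `Z`
when the odd core is trivial. -/
theorem eq_of_central_odd_index (hO : oddCore G = ⊥) {Z M : Subgroup G} [M.Normal] (hZM : Z ≤ M)
    (hZ : IsPGroup 2 Z) (hc : ∀ m ∈ M, ∀ z ∈ Z, m * z = z * m) (hidx : Odd (Z.relIndex M)) :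
    M = Z := by
  haveI : Fact (Nat.Prime 2) := ⟨Nat.prime_two⟩
  set Z' := Z.subgroupOf M
  haveI : Z'.Normal := ⟨fun z hz m => by
    have : m * z = z * m := Subtype.ext (hc _ m.2 _ hz)
    rwa [this, mul_inv_cancel_right]⟩
  have hZ' : IsPGroup 2 Z' := hZ.comap_of_injective M.subtype M.subtype_injective
  obtain ⟨k, hk⟩ := hZ'.exists_card_eq
  obtain ⟨K, hK⟩ := exists_right_complement'_of_coprime (N := Z') (by
    rw [hk]; exact (Nat.coprime_two_left.2 hidx).pow_left k)
  have hKcard : Nat.card K = Z'.index := hK.symm.index_eq_card.symm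
  have hKodd : Odd (Nat.card K) := hKcard ▸ hidx
  haveI : (K.map M.subtype).Normal := ⟨by
    rintro _ ⟨x, hx, rfl⟩ g
    obtain ⟨⟨⟨z, hz⟩, ⟨w, hw⟩⟩, hzw⟩ :=
      hK.2 (⟨g * (x : G) * g⁻¹, (inferInstance : M.Normal).conj_mem _ x.2 g⟩ : M)
    simp only at hzw
    have hxo : Odd (orderOf x) := Odd.of_dvd_nat hKodd (K.orderOf_dvd_natCard hx)
    have hwo : Odd (orderOf w) := Odd.of_dvd_nat hKodd (K.orderOf_dvd_natCard hw)
    set j := orderOf x * orderOf w with hj
    have hcomm : Commute w z := Subtype.ext (hc _ w.2 _ hz)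
    have hy : (z * w) ^ j = 1 := by
      rw [hzw]
      refine Subtype.ext ?_
      show (g * (x : G) * g⁻¹) ^ j = 1
      rw [conj_pow, hj, pow_mul, ← SubmonoidClass.coe_pow, pow_orderOf_eq_one, OneMemClass.coe_one,
        one_pow, mul_one, mul_inv_cancel]
    rw [hcomm.symm.mul_pow, show w ^ j = 1 by
      rw [hj, mul_comm, pow_mul, pow_orderOf_eq_one, one_pow], mul_one] at hy
    have hz1 : z = 1 := by
      obtain ⟨i, hi⟩ := IsPGroup.iff_orderOf.1 hZ' ⟨z, hz⟩
      rw [Subgroup.orderOf_mk] at hi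
      refine orderOf_eq_one_iff.1 (Nat.eq_one_of_dvd_coprimes
        (((Nat.coprime_two_right.2 (hxo.mul hwo)).pow_right i)) (orderOf_dvd_of_pow_eq_one hy)
        hi.dvd)
    refine ⟨w, hw, ?_⟩
    rw [hz1, one_mul] at hzw
    exact congrArg Subtype.val hzw⟩
  have hbot : K.map M.subtype = ⊥ := le_bot_iff.1 (hO ▸ Cores.le_oddCore (by
    rw [card_map_of_injective (K := K) M.subtype_injective]; exact hKodd))
  have h1 : Z'.index = 1 := by
    rw [← hKcard, ← card_map_of_injective (K := K) M.subtype_injective, hbot, card_bot]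
  exact le_antisymm (subgroupOf_eq_top.1 (index_eq_one.1 h1)) hZM

/-- A normal abelian Sylow subgroup is self-centralizing when the odd core is trivial. -/
theorem centralizer_eq (hO : oddCore G = ⊥) (S : Sylow 2 G) [IsMulCommutative (S : Subgroup G)]
    [(S : Subgroup G).Normal] : centralizer ((S : Subgroup G) : Set G) = S := by
  haveI : Fact (Nat.Prime 2) := ⟨Nat.prime_two⟩
  refine eq_of_central_odd_index hO (S : Subgroup G).le_centralizer S.isPGroup'
    (fun m hm z hz => (mem_centralizer_iff.1 hm z hz).symm) ?_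
  exact Odd.of_dvd_nat (Nat.not_even_iff_odd.1 fun he => S.not_dvd_index he.two_dvd)
    (relIndex_dvd_index_of_normal _ _)

end Cfsg.Agent.H80.EqualOrder
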