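import Cfsg.Agent.H80.EqualOrder.Normal
import Cfsg.Agent.S2798
import Cfsg.Agent.S1163
import Cfsg.Agent.S0813
import Cfsg.Agent.H33.SylU.Embed
import Cfsg.Agent.H86.PrimeGraph.PSLTwoEven
import Cfsg.Agent.H27.LowRank
import Cfsg.Agent.H27.PermFamily

/-!
# Equal order subgroups conjugate: the strongly embedded case
-/

set_option autoImplicit false
set_option linter.style.haveILetI false

namespace Cfsg.Agent.H80.EqualOrder

open Subgroup Cfsg Matrix

universe u

variable {G : Type u} [Group G] [Finite G]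

theorem pow_two_mul_odd_inj {a b m k : ℕ} (hm : Odd m) (hk : Odd k) (h : 2 ^ a * m = 2 ^ b * k) :
    a = b := by
  have : ∀ {c l : ℕ}, Odd l → (2 ^ c * l).factorization 2 = c := by
    intro c l hl
    rw [Nat.factorization_mul (by positivity) (fun h0 => by simp [h0] at hl), Finsupp.add_apply,
      Nat.factorization_eq_zero_of_not_dvd hl.not_two_dvd_nat, add_zero,
      Nat.Prime.factorization_pow Nat.prime_two, Finsupp.single_eq_same]
  rw [← this (c := a) hm, h, this hk]

theorem exists_two_involutions (S : Sylow 2 G) (hel : IsElementaryAbelian 2 (S : Subgroup G))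
    {n : ℕ} (hn : 2 ≤ n) (hcard : Nat.card (S : Subgroup G) = 2 ^ n) :
    ∃ a ∈ (S : Subgroup G), ∃ b ∈ (S : Subgroup G), orderOf a = 2 ∧ orderOf b = 2 ∧ a ≠ b := by
  classical
  haveI : Fintype ↥(S : Subgroup G) := Fintype.ofFinite _
  have h4 : 4 ≤ Fintype.card ↥(S : Subgroup G) := by
    rw [← Nat.card_eq_fintype_card, hcard]
    exact (show 4 = 2 ^ 2 by rfl) ▸ Nat.pow_le_pow_right (by norm_num) hn
  obtain ⟨a, -, ha⟩ := Finset.exists_mem_notMem_of_card_lt_card
    (s := ({1} : Finset ↥(S : Subgroup G))) (t := Finset.univ) (by simp; omega)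
  obtain ⟨b, -, hb⟩ := Finset.exists_mem_notMem_of_card_lt_card
    (s := ({1, a} : Finset ↥(S : Subgroup G))) (t := Finset.univ) (by
      refine (Finset.card_le_two).trans_lt ?_
      rw [Finset.card_univ]
      omega)
  simp only [Finset.mem_singleton, Finset.mem_insert, not_or] at ha hb
  exact ⟨a, a.2, b, b.2, orderOf_eq_two hel a.2 fun he => ha (Subtype.ext he),
    orderOf_eq_two hel b.2 fun he => hb.1 (Subtype.ext he), fun he => hb.2 (Subtype.ext he).symm⟩

/-- The simple normal subgroup of a group with strongly embedded Sylow normalizer. -/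
theorem EqOrd.exists_psl (h : EqOrd G) (hO : oddCore G = ⊥) (S : Sylow 2 G)
    (hel : IsElementaryAbelian 2 (S : Subgroup G)) {n : ℕ} (hn : 2 ≤ n) (hn5 : n ≤ 5)
    (hcard : Nat.card (S : Subgroup G) = 2 ^ n)
    (hne : normalizer ((S : Subgroup G) : Set G) ≠ ⊤) :
    ∃ (F : Type) (_ : Field F) (_ : Fintype F) (L : Subgroup G), L.Normal ∧ Odd L.index ∧
      Fintype.card F = 2 ^ n ∧ Nonempty (↥L ≃* ProjectiveSpecialLinearGroup (Fin 2) F) := by
  haveI : Fact (Nat.Prime 2) := ⟨Nat.prime_two⟩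
  have hS : (S : Subgroup G) ≠ ⊥ := fun hb => by
    rw [hb, card_bot] at hcard
    exact absurd hcard.symm (Nat.one_lt_two_pow (by omega)).ne'
  haveI : (pPrimeCore 2 G).Characteristic := Cores.pPrimeCore_characteristic
  let eQ : G ⧸ pPrimeCore 2 G ≃* G :=
    (QuotientGroup.quotientMulEquivOfEq hO).trans QuotientGroup.quotientBot
  set L0 := pElementClosure 2 (⊤ : Subgroup (G ⧸ pPrimeCore 2 G)) with hL0
  haveI : L0.Normal := ⟨fun x hx g => by
    refine (show L0 ≤ L0.comap (MulAut.conj g).toMonoidHom from (closure_le _).2 ?_) hx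
    rintro y ⟨-, k, hk⟩
    exact subset_closure ⟨mem_top _, k, by rw [MulEquiv.coe_toMonoidHom, MulEquiv.orderOf_eq, hk]⟩⟩
  set L := L0.map eQ.toMonoidHom with hL
  haveI hLn : L.Normal := Normal.map inferInstance _ eQ.surjective
  have hSL : (S : Subgroup G) ≤ L := fun x hx => by
    refine ⟨eQ.symm x, subset_closure ⟨mem_top _, ?_⟩, eQ.apply_symm_apply x⟩
    rw [MulEquiv.orderOf_eq]
    obtain ⟨k, hk⟩ := IsPGroup.iff_orderOf.1 S.isPGroup' ⟨x, hx⟩
    exact ⟨k, by rwa [Subgroup.orderOf_mk] at hk⟩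
  have hLodd : Odd L.index := Odd.of_dvd_nat (odd_index S) (index_dvd_of_le hSL)
  have hLcard : Nat.card L = 2 ^ n * (S : Subgroup G).relIndex L := by
    rw [← hcard, ← relIndex_bot_left, ← relIndex_bot_left, relIndex_mul_relIndex ⊥ _ _ bot_le hSL]
  have hrel : Odd ((S : Subgroup G).relIndex L) :=
    Odd.of_dvd_nat (odd_index S) (relIndex_dvd_index_of_le hSL)
  have key : ∀ {X : Type} [Group X] [Finite X] (a m : ℕ), Odd m → Nat.card X = 2 ^ a * m →
      Nonempty (↥L0 ≃* X) → a = n := by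
    rintro X _ _ a m hm hX ⟨e⟩
    have : Nat.card L = Nat.card X :=
      Nat.card_congr ((L0.equivMapOfInjective eQ.toMonoidHom eQ.injective).symm.trans e).toEquiv
    exact pow_two_mul_odd_inj hm hrel (by rw [← hX, ← this, hLcard])
  rcases S2798.result _ (h.stronglyEmbedded S hel hS hne) with
    hc | ⟨F, _, _, hchar, hF4, ⟨e⟩⟩ | ⟨F, _, _, q, hqe, hq4, hFq, hiso⟩ |
      ⟨F, _, _, m, hm, hFc, hiso⟩
  · exfalso
    obtain ⟨a, ha, b, hb, ha2, hb2, hab⟩ := exists_two_involutions S hel hn hcard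
    obtain ⟨htop, hu⟩ := hc a ha2
    rw [show pPrimeCore 2 G = ⊥ from hO, bot_sup_eq] at htop
    exact hab (hu b (htop ▸ mem_top b) hb2).symm
  · obtain ⟨k, -, hk⟩ := FiniteField.card F 2
    have hk1 : 1 ≤ (k : ℕ) := k.2
    have hodd : Odd ((2 ^ (k : ℕ)) ^ 2 - 1) :=
      Nat.Even.sub_odd (Nat.one_le_pow _ _ (by positivity))
        ((Nat.even_pow.2 ⟨even_two, by omega⟩).pow_of_ne_zero two_ne_zero) odd_one
    have hkn : (k : ℕ) = n := key (X := SpecialLinearGroup (Fin 2) F) k _ hodd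
      (by rw [Linear.card_SL_two, hk]) ⟨e⟩
    have hz : Subgroup.center (SpecialLinearGroup (Fin 2) F) = ⊥ := by
      refine Subgroup.eq_bot_of_card_eq _ ?_
      rw [Linear.card_center_SL, Fintype.card_fin, hk]
      exact Nat.coprime_two_left.2 (Nat.Even.sub_odd Nat.one_le_two_pow
        (Nat.even_pow.2 ⟨even_two, by omega⟩) odd_one)
    let ePSL : ProjectiveSpecialLinearGroup (Fin 2) F ≃* SpecialLinearGroup (Fin 2) F :=
      (QuotientGroup.quotientMulEquivOfEq hz).trans QuotientGroup.quotientBot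
    exact ⟨F, inferInstance, inferInstance, L, hLn, hLodd, by rw [hk, hkn],
      ⟨((L0.equivMapOfInjective eQ.toMonoidHom eQ.injective).symm.trans e).trans ePSL.symm⟩⟩
  · exfalso
    obtain ⟨p, hpF⟩ := CharP.exists F
    obtain ⟨k, hp, hk⟩ := FiniteField.card F p
    have hp2 : p = 2 := by
      have h2 : 2 ∣ p ^ (k : ℕ) := by
        rw [← hk, hFq]
        exact hqe.two_dvd.trans (dvd_pow_self q two_ne_zero)
      exact ((Nat.prime_dvd_prime_iff_eq Nat.prime_two hp).1 (Nat.prime_two.dvd_of_dvd_pow h2)).symm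
    obtain ⟨j, -, hj⟩ : ∃ j ≤ (k : ℕ), q = 2 ^ j := (Nat.dvd_prime_pow Nat.prime_two).1 (by
      rw [← hp2, ← hk, hFq]; exact dvd_pow_self q two_ne_zero)
    subst hj
    haveI : H33.SylU.QField F j := ⟨hFq⟩
    let T : Sylow 2 (PSU 3 F (2 ^ j)) := default
    obtain ⟨eT⟩ := H33.SylU.nonempty_equiv_PSU (F := F) (n := j) T
    have hT : Nat.card (T : Subgroup (PSU 3 F (2 ^ j))) = 2 ^ (3 * j) := by
      rw [← Nat.card_congr eT.toEquiv, H33.SylU.card_heis, ← pow_mul, mul_comm]
    have := key (X := PSU 3 F (2 ^ j)) (3 * j) _ (odd_index T)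
      (by rw [← hT, card_mul_index]) hiso
    have hj2 : 2 ≤ j := by
      by_contra hlt
      interval_cases j <;> omega
    omega
  · exfalso
    have hodd : Odd ((2 ^ (2 * m + 1) - 1) * ((2 ^ (2 * m + 1)) ^ 2 + 1)) := by
      have he : Even (2 ^ (2 * m + 1)) := Nat.even_pow.2 ⟨even_two, by omega⟩
      exact (Nat.Even.sub_odd Nat.one_le_two_pow he odd_one).mul
        ((he.pow_of_ne_zero two_ne_zero).add_one)
    have := key (X := ↥(Lie.Sz F (2 ^ (m + 1)))) ((2 * m + 1) * 2) _ hodd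
      (by rw [(S1163.result hm hFc).1, pow_mul, mul_assoc]) hiso
    omega

/-- Conjugation embeds the group in the automorphism group of its simple normal subgroup. -/
theorem conjNormal_injective (hO : oddCore G = ⊥) (L : Subgroup G) [L.Normal] (hidx : Odd L.index)
    (hc : Subgroup.center ↥L = ⊥) :
    Function.Injective (MulAut.conjNormal (H := L) : G →* MulAut ↥L) := by
  rw [← MonoidHom.ker_eq_bot_iff]
  set C := (MulAut.conjNormal (H := L) : G →* MulAut ↥L).ker
  have hd : ∀ x ∈ C, x ∈ L → x = 1 := fun x hx hxL => by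
    have : (⟨x, hxL⟩ : L) ∈ Subgroup.center ↥L := Subgroup.mem_center_iff.2 fun y => by
      refine Subtype.ext ?_
      have h1 : x * (y : G) * x⁻¹ = y := congrArg Subtype.val (DFunLike.congr_fun
        (MonoidHom.mem_ker.1 hx) y)
      exact (mul_inv_eq_iff_eq_mul.1 h1).symm
    rw [hc, Subgroup.mem_bot] at this
    exact congrArg Subtype.val this
  have hinj : Function.Injective ((QuotientGroup.mk' L).comp C.subtype) :=
    (injective_iff_map_eq_one _).2 fun x hx => Subtype.ext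
      (hd x x.2 ((QuotientGroup.eq_one_iff _).1 hx))
  have hodd : Odd (Nat.card C) := Odd.of_dvd_nat hidx (card_dvd_of_injective _ hinj)
  exact le_bot_iff.1 (hO ▸ Cores.le_oddCore hodd)

theorem card_mulAut (F : Type) [Field F] [Fintype F] {n : ℕ} (hn : 2 ≤ n)
    (hF : Fintype.card F = 2 ^ n) :
    Nat.card (MulAut (ProjectiveSpecialLinearGroup (Fin 2) F)) =
      n * (2 ^ n * (2 ^ (2 * n) - 1)) := by
  haveI : Fact (Nat.Prime 2) := ⟨Nat.prime_two⟩
  have h4 : 4 ≤ 2 ^ n := (show 4 = 2 ^ 2 by rfl) ▸ Nat.pow_le_pow_right (by norm_num) hn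
  rw [S0813.result 2 n (by omega) hF 2 le_rfl (fun _ => h4), if_pos rfl, one_mul,
    Linear.card_PGL_eq, Linear.card_SL_two, hF, ← pow_mul, mul_comm n 2]

/-- Facts about a group over a normal subgroup of odd index isomorphic to `PSL₂(2ⁿ)`. -/
theorem psl_index (hO : oddCore G = ⊥) (L : Subgroup G) [L.Normal] (hLodd : Odd L.index)
    {F : Type} [Field F] [Fintype F] {n : ℕ} (hn : 2 ≤ n) (hF : Fintype.card F = 2 ^ n)
    (e : ↥L ≃* ProjectiveSpecialLinearGroup (Fin 2) F) :
    Nat.card ↥L = 2 ^ n * (2 ^ (2 * n) - 1) ∧ L.index ∣ n ∧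
      (L.index = n → Function.Bijective
        ((MulAut.congr e).toMonoidHom.comp (MulAut.conjNormal (H := L) : G →* MulAut ↥L))) := by
  have hLc : Nat.card ↥L = 2 ^ n * (2 ^ (2 * n) - 1) := by
    rw [Nat.card_congr e.toEquiv, H86.PrimeGraph.card_psl_two_even (by omega) hF]
  have h4 : 4 ≤ 2 ^ n := (show 4 = 2 ^ 2 by rfl) ▸ Nat.pow_le_pow_right (by norm_num) hn
  have hz : Subgroup.center ↥L = ⊥ := by
    rw [eq_bot_iff]
    intro z hz
    have : e z ∈ Subgroup.center (ProjectiveSpecialLinearGroup (Fin 2) F) :=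
      Subgroup.mem_center_iff.2 fun y => by
        obtain ⟨y, rfl⟩ := e.surjective y
        rw [← map_mul, ← map_mul, Subgroup.mem_center_iff.1 hz y]
    rw [H27.LowRank.center_psl_two (by omega), Subgroup.mem_bot, map_eq_one_iff e e.injective] at this
    exact this
  set ψ := (MulAut.congr e).toMonoidHom.comp (MulAut.conjNormal (H := L) : G →* MulAut ↥L)
  have hψ : Function.Injective ψ :=
    (MulAut.congr e).injective.comp (conjNormal_injective hO L hLodd hz)
  have hdiv : L.index ∣ n := by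
    have h1 := card_dvd_of_injective ψ hψ
    rw [card_mulAut F hn hF, ← hLc, ← card_mul_index L, mul_comm n] at h1
    exact Nat.dvd_of_mul_dvd_mul_left Nat.card_pos h1
  exact ⟨hLc, hdiv, fun hi => (Nat.bijective_iff_injective_and_card ψ).2
    ⟨hψ, by rw [card_mulAut F hn hF, ← hLc, ← card_mul_index L, hi, mul_comm]⟩⟩

theorem EqOrd.two_nonnormal (h : EqOrd G) (hO : oddCore G = ⊥) (S : Sylow 2 G)
    (hel : IsElementaryAbelian 2 (S : Subgroup G))
    (hcard : Nat.card (S : Subgroup G) = 2 ^ 2)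
    (hne : normalizer ((S : Subgroup G) : Set G) ≠ ⊤) :
    Nonempty (G ≃* alternatingGroup (Fin 5)) := by
  obtain ⟨F, _, _, L, _, hodd, hF, ⟨e⟩⟩ := h.exists_psl hO S hel le_rfl (by norm_num) hcard hne
  obtain ⟨hLc, hdiv, -⟩ := psl_index hO L hodd le_rfl hF e
  have hi : L.index = 1 := by
    rcases (Nat.dvd_prime Nat.prime_two).1 hdiv with h1 | h1
    · exact h1
    · rw [h1] at hodd; exact absurd hodd (by decide)
  obtain ⟨e5⟩ := H27.ProjLine.psl_two_equiv_alternating (F := F) (n := 5) (by rw [hF]; rfl) (by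
    rw [← Nat.card_congr e.toEquiv, hLc]; rfl)
  exact ⟨((Subgroup.topEquiv.symm.trans
    (MulEquiv.subgroupCongr (index_eq_one.1 hi).symm)).trans e).trans e5⟩

theorem card_five_dvd :
    5 ∣ Nat.card ↥(semiaffineGroup (GaloisField 2 5)) := by
  haveI : Fact (Nat.Prime 2) := ⟨Nat.prime_two⟩
  haveI : Fintype (GaloisField 2 5) := Fintype.ofFinite _
  obtain ⟨e⟩ := H56.ringAut_equiv (F := GaloisField 2 5) (p := 2) (f := 5) (by norm_num) (by
    rw [← Nat.card_eq_fintype_card, GaloisField.card 2 5 (by norm_num)])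
  let f : RingAut (GaloisField 2 5) →* ↥(semiaffineGroup (GaloisField 2 5)) :=
    { toFun := fun σ => ⟨σ.toEquiv, 1, 0, σ, fun x => by simp⟩
      map_one' := Subtype.ext (Equiv.ext fun _ => rfl)
      map_mul' := fun _ _ => Subtype.ext (Equiv.ext fun _ => rfl) }
  have hf : Function.Injective f := fun σ τ hst => RingEquiv.ext fun x =>
    Equiv.ext_iff.1 (congrArg Subtype.val hst) x
  have := card_dvd_of_injective f hf
  rwa [Nat.card_congr e.toEquiv, Nat.card_congr Multiplicative.toAdd, Nat.card_zmod] at this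

theorem zmod_three_facts :
    Multiplicative.ofAdd (1 : ZMod 3) ≠ 1 ∧ Multiplicative.ofAdd (1 : ZMod 3) ^ 3 = 1 := by
  decide

theorem EqPOrd.three_of_psl (h : EqPOrd G) (hO : oddCore G = ⊥) (L : Subgroup G) [hLn : L.Normal]
    (hodd : Odd L.index) {F : Type} [Field F] [Fintype F] (hF : Fintype.card F = 2 ^ 3)
    (e : ↥L ≃* ProjectiveSpecialLinearGroup (Fin 2) F) :
    Nonempty (G ≃* ProjectiveSpecialLinearGroup (Fin 2) (GaloisField 2 3)) := by
  haveI : Fact (Nat.Prime 2) := ⟨Nat.prime_two⟩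
  haveI : Fact (Nat.Prime 3) := ⟨Nat.prime_three⟩
  obtain ⟨hLc, hdiv, hbij⟩ := psl_index hO L hodd (by norm_num) hF e
  rcases (Nat.dvd_prime Nat.prime_three).1 hdiv with hi | hi
  · haveI : Fintype (GaloisField 2 3) := Fintype.ofFinite _
    let r : F ≃+* GaloisField 2 3 := FiniteField.ringEquivOfCardEq (by
      rw [hF, ← Nat.card_eq_fintype_card, GaloisField.card 2 3 (by norm_num)])
    exact ⟨((Subgroup.topEquiv.symm.trans (MulEquiv.subgroupCongr (index_eq_one.1 hi).symm)).trans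
      e).trans (H27.PermFamily.pslCongr r)⟩
  · exfalso
    set ψ := (MulAut.congr e).toMonoidHom.comp (MulAut.conjNormal (H := L) : G →* MulAut ↥L) with hψ
    obtain ⟨eR⟩ := H56.ringAut_equiv (F := F) (p := 2) (f := 3) (by norm_num) hF
    set σ : RingAut F := eR.symm (Multiplicative.ofAdd 1) with hσ
    have hσ1 : σ ≠ 1 := fun hh => by
      have := congrArg eR hh
      rw [hσ, eR.apply_symm_apply, eR.map_one] at this
      exact zmod_three_facts.1 this
    have hσ3 : σ ^ 3 = 1 := by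
      rw [hσ, ← map_pow, zmod_three_facts.2, map_one]
    obtain ⟨q, hq⟩ := (hbij hi).2 (H56.semiAut (1 : GL (Fin 2) F) σ)
    have hsemi : ∀ j : ℕ, (H56.semiAut (1 : GL (Fin 2) F) σ) ^ j = H56.semiAut 1 (σ ^ j) := by
      intro j
      induction j with
      | zero => rw [pow_zero, pow_zero]; exact H56.semiAut_one.symm
      | succ j ih => rw [pow_succ, ih, H56.semiAut_mul, pow_succ, map_one, mul_one]; rfl
    have hq3 : q ^ 3 = 1 := (hbij hi).1 (by
      rw [map_pow, hq, hsemi, hσ3, map_one]; exact H56.semiAut_one)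
    have hfield : ∀ l ∈ L, H56.fieldHom (F := F) (n := 2) le_rfl (ψ l) = 1 := by
      intro l hl
      obtain ⟨s, hs⟩ := H56.toP_surjective (e ⟨l, hl⟩)
      have hcj : ψ l = MulAut.conj (H56.toP s) := by
        rw [hs]
        refine MulEquiv.ext fun x => ?_
        obtain ⟨y, rfl⟩ := e.surjective x
        show e (MulAut.conjNormal l (e.symm (e y))) = e ⟨l, hl⟩ * e y * (e ⟨l, hl⟩)⁻¹
        rw [e.symm_apply_apply, ← map_inv, ← map_mul, ← map_mul]
        rfl
      rw [hcj, ← H56.semiAut_eq_conj, H56.fieldHom_semiAut]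
      rfl
    have hqL : q ∉ L := fun hh => by
      have := hfield q hh
      rw [show ψ q = H56.semiAut 1 σ from hq, H56.fieldHom_semiAut] at this
      exact hσ1 this
    have hqo : orderOf q = 3 := orderOf_eq_prime hq3 fun hh => hqL (hh ▸ one_mem L)
    obtain ⟨l, hl⟩ := exists_prime_orderOf_dvd_card' (G := ↥L) 3 (by rw [hLc]; norm_num)
    obtain ⟨g, hg⟩ := h 3 Nat.prime_three (zpowers (l : G)) (zpowers q)
      (IsPGroup.of_card (n := 1) (by rw [Nat.card_zpowers, Subgroup.orderOf_coe, hl, pow_one]))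
      (IsPGroup.of_card (n := 1) (by rw [Nat.card_zpowers, hqo, pow_one]))
      (by rw [Nat.card_zpowers, Nat.card_zpowers, Subgroup.orderOf_coe, hl, hqo])
    obtain ⟨x, hx, hxq⟩ : q ∈ (zpowers (l : G)).map (MulAut.conj g).toMonoidHom :=
      hg ▸ mem_zpowers q
    exact hqL (hxq ▸ hLn.conj_mem x ((zpowers_le.2 l.2) hx) g)

theorem EqPOrd.five_of_psl (h : EqPOrd G) (hO : oddCore G = ⊥) (S : Sylow 2 G)
    (hel : IsElementaryAbelian 2 (S : Subgroup G))
    (hcard : Nat.card (S : Subgroup G) = 2 ^ 5)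
    (L : Subgroup G) [L.Normal] (hodd : Odd L.index) {F : Type} [Field F] [Fintype F]
    (hF : Fintype.card F = 2 ^ 5) (e : ↥L ≃* ProjectiveSpecialLinearGroup (Fin 2) F) :
    Nonempty (G ≃* MulAut (ProjectiveSpecialLinearGroup (Fin 2) (GaloisField 2 5))) := by
  haveI : Fact (Nat.Prime 2) := ⟨Nat.prime_two⟩
  obtain ⟨hLc, hdiv, hbij⟩ := psl_index hO L hodd (by norm_num) hF e
  have h5 : 5 ∣ Nat.card G := by
    rcases h.normalizer_shape S hel (by norm_num) hcard with ⟨h3, -⟩ | ⟨-, ⟨eN⟩⟩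
    · norm_num at h3
    · refine dvd_trans ?_ (card_subgroup_dvd_card (normalizer ((S : Subgroup G) : Set G)))
      refine dvd_trans ?_ (card_quotient_dvd_card (pPrimeCore 2 _))
      rw [Nat.card_congr eN.toEquiv]
      exact card_five_dvd
  rcases (Nat.dvd_prime (by norm_num : Nat.Prime 5)).1 hdiv with hi | hi
  · rw [← card_mul_index L, hLc, hi] at h5
    norm_num at h5
  · haveI : Fintype (GaloisField 2 5) := Fintype.ofFinite _
    let r : F ≃+* GaloisField 2 5 := FiniteField.ringEquivOfCardEq (by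
      rw [hF, ← Nat.card_eq_fintype_card, GaloisField.card 2 5 (by norm_num)])
    exact ⟨(MulEquiv.ofBijective _ (hbij hi)).trans (MulAut.congr (H27.PermFamily.pslCongr r))⟩

theorem EqOrd.three_nonnormal (h : EqOrd G) (hO : oddCore G = ⊥) (S : Sylow 2 G)
    (hel : IsElementaryAbelian 2 (S : Subgroup G))
    (hcard : Nat.card (S : Subgroup G) = 2 ^ 3)
    (hne : normalizer ((S : Subgroup G) : Set G) ≠ ⊤) :
    Nonempty (G ≃* ProjectiveSpecialLinearGroup (Fin 2) (GaloisField 2 3)) := by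
  obtain ⟨F, _, _, L, _, hodd, hF, ⟨e⟩⟩ :=
    h.exists_psl hO S hel (by norm_num) (by norm_num) hcard hne
  exact h.primary.three_of_psl hO L hodd hF e

theorem EqOrd.five_nonnormal (h : EqOrd G) (hO : oddCore G = ⊥) (S : Sylow 2 G)
    (hel : IsElementaryAbelian 2 (S : Subgroup G))
    (hcard : Nat.card (S : Subgroup G) = 2 ^ 5)
    (hne : normalizer ((S : Subgroup G) : Set G) ≠ ⊤) :
    Nonempty (G ≃* MulAut (ProjectiveSpecialLinearGroup (Fin 2) (GaloisField 2 5))) := by
  obtain ⟨F, _, _, L, _, hodd, hF, ⟨e⟩⟩ :=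
    h.exists_psl hO S hel (by norm_num) le_rfl hcard hne
  exact h.primary.five_of_psl hO S hel hcard L hodd hF e

end Cfsg.Agent.H80.EqualOrder
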