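import Cfsg.Agent.Compute.J1.Outer
import Cfsg.Agent.S4273

/-!
# A normal first Janko group with trivial centraliser is the whole group
-/

set_option autoImplicit false
set_option linter.style.haveILetI false

namespace Cfsg.Agent.H80.EqualOrder

open Subgroup Cfsg

universe u

/-- Every automorphism of a group with the order of the first Janko group is inner. -/
theorem isJ1_of_normal {G : Type u} [Group G] [Finite G] (L : Subgroup G) [hLn : L.Normal]
    (hC : centralizer (L : Set G) = ⊥) (hJ : IsJ1 ↥L) : IsJ1 G := by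
  haveI := hJ.1
  haveI := Compute.J1.isSimple_J1
  haveI : Finite ↥Cfsg.Spor.J1 := Nat.finite_of_card_ne_zero (by rw [Compute.J1.card_J1]; norm_num)
  obtain ⟨e₀⟩ := Compute.J1.nonempty_equiv
  obtain ⟨e₁⟩ := S4273.result (G := ↥L) (H := ↥Cfsg.Spor.J1) hJ.2 Compute.J1.card_J1
  let e := e₁.trans e₀.symm
  have htop : L = ⊤ := by
    refine eq_top_iff.2 fun g _ => ?_
    obtain ⟨c, hc⟩ := Compute.J1.aut_inner ((e.symm.trans (MulAut.conjNormal g)).trans e)
    set l := e.symm c
    have hz : (l : G)⁻¹ * g ∈ centralizer (L : Set G) := by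
      refine mem_centralizer_iff.2 fun x hx => ?_
      have h1 : e (MulAut.conjNormal g (e.symm (e ⟨x, hx⟩))) = c * e ⟨x, hx⟩ * c⁻¹ := by
        have := DFunLike.congr_fun hc (e ⟨x, hx⟩)
        simpa only [MulEquiv.trans_apply, MulAut.conj_apply] using this
      rw [e.symm_apply_apply, show c = e l from (e.apply_symm_apply c).symm, ← map_inv, ← map_mul,
        ← map_mul] at h1
      have h2 : g * x * g⁻¹ = (l : G) * x * (l : G)⁻¹ := congrArg Subtype.val (e.injective h1)
      calc x * ((l : G)⁻¹ * g) = (l : G)⁻¹ * ((l : G) * x * (l : G)⁻¹) * g := by group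
        _ = (l : G)⁻¹ * g * x := by rw [← h2]; group
    rw [hC, mem_bot, inv_mul_eq_one] at hz
    exact hz ▸ l.2
  let eG : ↥L ≃* G := (MulEquiv.subgroupCongr htop).trans Subgroup.topEquiv
  exact ⟨MulEquiv.isSimpleGroup eG.symm, (Nat.card_congr eG.toEquiv).symm.trans hJ.2⟩

end Cfsg.Agent.H80.EqualOrder
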