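import Cfsg.Agent.H80.EqualOrder.Basic
import Cfsg.Agent.H63.GW.Shape
import Cfsg.Agent.S4025
import Cfsg.Agent.S0205

/-!
# Equal order subgroups conjugate: the normalizer of the Sylow subgroup
-/

set_option autoImplicit false
set_option linter.style.haveILetI false

namespace Cfsg.Agent.H80.EqualOrder

open Subgroup Cfsg

universe u

variable {G : Type u} [Group G] [Finite G]

theorem odd_index (S : Sylow 2 G) : Odd (S : Subgroup G).index :=
  haveI : Fact (Nat.Prime 2) := ⟨Nat.prime_two⟩
  Nat.not_even_iff_odd.1 fun he => S.not_dvd_index he.two_dvd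

theorem EqPOrd.two_normal (h : EqPOrd G) (hO : oddCore G = ⊥) (S : Sylow 2 G)
    (hel : IsElementaryAbelian 2 (S : Subgroup G)) [(S : Subgroup G).Normal]
    (h4 : Nat.card (S : Subgroup G) = 4) : Nonempty (G ≃* alternatingGroup (Fin 4)) := by
  haveI : Fact (Nat.Prime 2) := ⟨Nat.prime_two⟩
  haveI : IsMulCommutative (S : Subgroup G) := hel.1
  have hK : IsKleinFour ↥(S : Subgroup G) := ⟨h4, by
    rcases (Nat.dvd_prime Nat.prime_two).1 (Monoid.exponent_dvd_of_forall_pow_eq_one
      fun a : ↥(S : Subgroup G) => Subtype.ext (hel.2 a a.2)) with he | he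
    · haveI : Subsingleton ↥(S : Subgroup G) := Monoid.exp_eq_one_iff.1 he
      rw [Nat.card_of_subsingleton (1 : ↥(S : Subgroup G))] at h4
      omega
    · exact he⟩
  have hC := centralizer_eq hO S
  rcases H63.GW.four_group_case (S : Subgroup G) hK (fun g hg => hC ▸
    mem_centralizer_iff.2 fun v hv => (hg v hv).symm) with h2 | h2 | ⟨⟨e⟩⟩
  · exfalso
    have htop : (S : Subgroup G) = ⊤ :=
      (S.is_maximal' (h2.to_subgroup ⊤) le_top).symm
    haveI : Nontrivial ↥(S : Subgroup G) := Finite.one_lt_card_iff_nontrivial.1 (by omega)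
    obtain ⟨a, ha⟩ := exists_ne (1 : ↥(S : Subgroup G))
    obtain ⟨b, hb, hba⟩ : ∃ b : ↥(S : Subgroup G), b ≠ 1 ∧ b ≠ a := by
      by_contra hcon
      push Not at hcon
      have : Nat.card ↥(S : Subgroup G) ≤ 2 := by
        rw [← Set.ncard_univ]
        refine (Set.ncard_le_ncard (t := {1, a}) (fun x _ => ?_)).trans ?_
        · by_cases hx : x = 1
          · exact Or.inl hx
          · exact Or.inr (hcon x hx)
        · exact (Set.ncard_insert_le _ _).trans (by rw [Set.ncard_singleton])
      omega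
    have hne : ∀ c : ↥(S : Subgroup G), c ≠ 1 → orderOf (c : G) = 2 := fun c hc =>
      orderOf_eq_two hel c.2 fun he => hc (Subtype.ext he)
    obtain ⟨g, hg⟩ := h.exists_conj (hne a ha) (hne b hb)
    have hgS : g ∈ (S : Subgroup G) := htop ▸ mem_top g
    have hcomm : g * (a : G) = a * g :=
      congrArg Subtype.val (mul_comm' (⟨g, hgS⟩ : ↥(S : Subgroup G)) a)
    rw [hcomm, mul_inv_cancel_right] at hg
    exact hba (Subtype.ext hg.symm)
  · exact h2
  · exfalso
    have h24 : Nat.card G = 24 := by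
      rw [Nat.card_congr e.toEquiv, Nat.card_perm, Nat.card_eq_fintype_card, Fintype.card_fin]; rfl
    have h6 := (S : Subgroup G).card_mul_index
    rw [h4, h24] at h6
    have := odd_index S
    rw [Nat.odd_iff] at this
    omega

omit [Finite G] in
theorem pPrimeCore_eq_bot_of_equiv {X : Type u} [Group X] [Finite X] (e : X ≃* G) [Finite G]
    (hO : oddCore G = ⊥) : pPrimeCore 2 X = ⊥ := by
  haveI := (Cores.pPrimeCore_characteristic (p := 2) (G := X))
  haveI : (pPrimeCore 2 X).Normal := inferInstance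
  haveI : ((pPrimeCore 2 X).map e.toMonoidHom).Normal := Normal.map inferInstance _ e.surjective
  have : (pPrimeCore 2 X).map e.toMonoidHom ≤ oddCore G := Cores.le_oddCore (by
    rw [card_map_of_injective e.injective]
    exact Cores.odd_card_oddCore)
  rw [hO, le_bot_iff, map_eq_bot_iff_of_injective _ e.injective] at this
  exact this

/-- If `S` is normal, the group is its own reduced normalizer. -/
theorem normalizer_iso (hO : oddCore G = ⊥) (S : Sylow 2 G)
    (hN : normalizer ((S : Subgroup G) : Set G) = ⊤) {X : Type*} [Group X]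
    (e : ↥(normalizer ((S : Subgroup G) : Set G)) ⧸
      pPrimeCore 2 ↥(normalizer ((S : Subgroup G) : Set G)) ≃* X) :
    Nonempty (G ≃* X) := by
  let e0 : ↥(normalizer ((S : Subgroup G) : Set G)) ≃* G :=
    (MulEquiv.subgroupCongr hN).trans Subgroup.topEquiv
  have hb := pPrimeCore_eq_bot_of_equiv e0 hO
  exact ⟨e0.symm.trans ((QuotientGroup.quotientBot.symm.trans
    (QuotientGroup.quotientMulEquivOfEq hb.symm)).trans e)⟩

theorem EqPOrd.normalizer_shape (h : EqPOrd G) (S : Sylow 2 G)
    (hel : IsElementaryAbelian 2 (S : Subgroup G)) {n : ℕ} (hn : 3 ≤ n)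
    (hcard : Nat.card (S : Subgroup G) = 2 ^ n) :
    let N := normalizer ((S : Subgroup G) : Set G)
    (n = 3 ∧ (Nonempty (↥N ⧸ pPrimeCore 2 ↥N ≃* semiaffineGroup (GaloisField 2 3)) ∨
        Nonempty (↥N ⧸ pPrimeCore 2 ↥N ≃* affineGroup (GaloisField 2 3)))) ∨
      (n = 5 ∧ Nonempty (↥N ⧸ pPrimeCore 2 ↥N ≃* semiaffineGroup (GaloisField 2 5))) := by
  intro N
  haveI : Fact (Nat.Prime 2) := ⟨Nat.prime_two⟩
  haveI : IsMulCommutative (S : Subgroup G) := hel.1
  have hSN : (S : Subgroup G) ≤ N := le_normalizer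
  haveI : ((S : Subgroup G).subgroupOf N).Normal := normal_in_normalizer
  haveI : Group.IsSolvable ↥((S : Subgroup G).subgroupOf N) := Group.isSolvable_of_comm fun a b =>
    Subtype.ext (Subtype.ext (by
      have := congrArg Subtype.val
        (mul_comm' (⟨_, mem_subgroupOf.1 a.2⟩ : ↥(S : Subgroup G)) ⟨_, mem_subgroupOf.1 b.2⟩)
      simpa using this))
  haveI : Group.IsSolvable (↥N ⧸ (S : Subgroup G).subgroupOf N) := S0205.result (by
    rw [← index_eq_card]
    exact Odd.of_dvd_nat (odd_index S) (relIndex_dvd_index_of_le hSN))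
  haveI : Group.IsSolvable ↥N :=
    (Group.isSolvable_iff_subgroup_quotient ((S : Subgroup G).subgroupOf N)).2
      ⟨inferInstance, inferInstance⟩
  haveI : (pPrimeCore 2 ↥N).Characteristic := Cores.pPrimeCore_characteristic
  rcases S4025.result (fun H K hH hK hHK => h 2 Nat.prime_two H K hH hK hHK) S n hn hel hcard N rfl inferInstance with
    ⟨h3, -, h2⟩ | ⟨h5, -, h32⟩
  · exact Or.inl ⟨h3, h2 rfl⟩
  · exact Or.inr ⟨h5, h32⟩

end Cfsg.Agent.H80.EqualOrder
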