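import Cfsg.Agent.H80.EqualOrder.Normal
import Cfsg.Agent.S4023
import Cfsg.Agent.S4025
import Cfsg.Agent.S0813
import Cfsg.Agent.Linear.Dickson.Orders
import Cfsg.Agent.H27.PermFamily

/-!
# Equal order `p`-subgroups conjugate: socle `PSL₂(q)`, `q` odd
-/

set_option autoImplicit false
set_option linter.style.haveILetI false

namespace Cfsg.Agent.H80.EqualOrder

open Subgroup Cfsg Matrix

universe u

variable {G : Type u} [Group G] [Finite G]

/-- Elements of prime order lie in a normal subgroup of order divisible by the prime. -/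
theorem EqPOrd.mem_of_prime (h : EqPOrd G) (L : Subgroup G) [hLn : L.Normal] {r : ℕ} (hr : r.Prime)
    (hrL : r ∣ Nat.card L) {x : G} (hx : orderOf x = r) : x ∈ L := by
  haveI : Fact r.Prime := ⟨hr⟩
  obtain ⟨l, hl⟩ := exists_prime_orderOf_dvd_card' (G := ↥L) r hrL
  obtain ⟨g, hg⟩ := h r hr (zpowers (l : G)) (zpowers x)
    (IsPGroup.of_card (n := 1) (by rw [Nat.card_zpowers, Subgroup.orderOf_coe, hl, pow_one]))
    (IsPGroup.of_card (n := 1) (by rw [Nat.card_zpowers, hx, pow_one]))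
    (by rw [Nat.card_zpowers, Nat.card_zpowers, Subgroup.orderOf_coe, hl, hx])
  obtain ⟨y, hy, hyx⟩ : x ∈ (zpowers (l : G)).map (MulAut.conj g).toMonoidHom := hg ▸ mem_zpowers x
  exact hyx ▸ hLn.conj_mem y ((zpowers_le.2 l.2) hy) g

/-- The standard Sylow subgroup in the characteristic. -/
theorem unipotent_facts (F : Type) [Field F] [Fintype F] (p : ℕ) [Fact p.Prime] [CharP F p] :
    ∃ U : Sylow p (ProjectiveSpecialLinearGroup (Fin 2) F),
      Nat.card (U : Subgroup (ProjectiveSpecialLinearGroup (Fin 2) F)) = Fintype.card F ∧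
      IsElementaryAbelian p (U : Subgroup (ProjectiveSpecialLinearGroup (Fin 2) F)) ∧
      Group.IsSolvable ↥(normalizer ((U : Subgroup (ProjectiveSpecialLinearGroup (Fin 2) F)) :
        Set (ProjectiveSpecialLinearGroup (Fin 2) F))) := by
  obtain ⟨T, -⟩ := Linear.Dickson.exists_sylow_borel (F := F) p
  set V := Linear.Dickson.cen (Linear.Dickson.stdUni :
    ProjectiveSpecialLinearGroup (Fin 2) F) with hV
  have hcard : Nat.card V = Fintype.card F := Linear.Dickson.card_cen_stdUni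
  have hp : IsPGroup p V := Linear.Dickson.isPGroup_cen_stdUni p
  obtain ⟨U, hU⟩ := hp.exists_le_sylow
  have hq : ∃ f : ℕ+, Fintype.card F = p ^ (f : ℕ) := by
    obtain ⟨f, -, hf⟩ := FiniteField.card F p
    exact ⟨f, hf⟩
  obtain ⟨f, hf⟩ := hq
  have hUV : (U : Subgroup (ProjectiveSpecialLinearGroup (Fin 2) F)) = V := by
    refine (eq_of_le_of_card_ge hU ?_).symm
    rw [U.card_eq_multiplicity, hcard, hf]
    refine Nat.pow_le_pow_right (Fact.out (p := p.Prime)).pos ?_
    have h2 := Linear.card_PSL_two_mul (F := F)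
    have h3 : (Nat.gcd 2 (Fintype.card F - 1) *
        Nat.card (ProjectiveSpecialLinearGroup (Fin 2) F)).factorization p =
        (Fintype.card F * (Fintype.card F ^ 2 - 1)).factorization p := by rw [h2]
    have hq2 : 1 < Fintype.card F := Fintype.one_lt_card
    have hne : Fintype.card F ^ 2 - 1 ≠ 0 := by
      have : 1 < Fintype.card F ^ 2 := Nat.one_lt_pow two_ne_zero hq2
      omega
    have hnd : ¬ p ∣ Fintype.card F ^ 2 - 1 := fun hd => by
      have h4 : p ∣ Fintype.card F ^ 2 := dvd_pow (hf ▸ dvd_pow_self p f.ne_zero) two_ne_zero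
      have h5 := Nat.dvd_sub h4 hd
      rw [Nat.sub_sub_self (Nat.one_le_pow _ _ (by omega))] at h5
      exact (Fact.out (p := p.Prime)).not_dvd_one h5
    rw [Nat.factorization_mul (fun h0 => by simp at h0) Nat.card_pos.ne',
      Nat.factorization_mul (by omega) hne, Finsupp.add_apply, Finsupp.add_apply,
      Nat.factorization_eq_zero_of_not_dvd hnd, hf, Nat.Prime.factorization_pow Fact.out,
      Finsupp.single_eq_same] at h3
    omega
  have hmem : ∀ x, x ∈ (U : Subgroup (ProjectiveSpecialLinearGroup (Fin 2) F)) ↔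
      x ∈ Linear.Dickson.cen (Linear.Dickson.stdUni : ProjectiveSpecialLinearGroup (Fin 2) F) :=
    fun x => by rw [hUV]
  refine ⟨U, by rw [hUV, hcard], ⟨⟨⟨fun a b => Subtype.ext ?_⟩⟩, fun a ha => ?_⟩, ?_⟩
  · exact Linear.Dickson.cen_comm Linear.Dickson.stdUni_ne_one ((hmem _).1 a.2) ((hmem _).1 b.2)
  · exact Linear.Dickson.pow_char_eq_one_of_isUni p
      (Linear.Dickson.isUni_of_mem_cen_stdUni ((hmem _).1 ha))
  · haveI := Linear.Dickson.isSolvable_borel (F := F)
    refine Group.isSolvable_of_isSolvable_injective (f := inclusion (K := Linear.Dickson.borel F)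
      fun g hg => ?_) (inclusion_injective _)
    refine Linear.Dickson.mem_borel_of_conj (u := Linear.Dickson.stdUni)
      (Linear.Dickson.mem_cen_self _) Linear.Dickson.stdUni_ne_one ?_
    have := (mem_normalizer_iff.1 hg Linear.Dickson.stdUni).1 ((hmem _).2 (Linear.Dickson.mem_cen_self _))
    exact (hmem _).1 this

theorem psi_mem (L : Subgroup G) [L.Normal] {F : Type} [Field F] [Fintype F]
    (e : ↥L ≃* ProjectiveSpecialLinearGroup (Fin 2) F) {l : G} (hl : l ∈ L) :
    H56.fieldHom (F := F) (n := 2) le_rfl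
      ((MulAut.congr e).toMonoidHom.comp (MulAut.conjNormal (H := L) : G →* MulAut ↥L) l) = 1 := by
  obtain ⟨s, hs⟩ := H56.toP_surjective (e ⟨l, hl⟩)
  have hcj : (MulAut.congr e).toMonoidHom.comp (MulAut.conjNormal (H := L) : G →* MulAut ↥L) l =
      MulAut.conj (H56.toP s) := by
    rw [hs]
    refine MulEquiv.ext fun x => ?_
    obtain ⟨y, rfl⟩ := e.surjective x
    show e (MulAut.conjNormal l (e.symm (e y))) = e ⟨l, hl⟩ * e y * (e ⟨l, hl⟩)⁻¹
    rw [e.symm_apply_apply, ← map_inv, ← map_mul, ← map_mul]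
    rfl
  rw [hcj, ← H56.semiAut_eq_conj, H56.fieldHom_semiAut]
  rfl

theorem EqPOrd.odd_psl (h : EqPOrd G) (L : Subgroup G) [hLn : L.Normal] (hodd : Odd L.index)
    (hC : centralizer (L : Set G) = ⊥) {F : Type} [Field F] [Fintype F]
    (h8 : Fintype.card F % 8 = 3 ∨ Fintype.card F % 8 = 5) (h5 : 5 ≤ Fintype.card F)
    (e : ↥L ≃* ProjectiveSpecialLinearGroup (Fin 2) F) :
    ∃ (p : ℕ) (_ : Fact p.Prime), (p % 8 = 3 ∨ p % 8 = 5) ∧
      ((5 ≤ p ∧ Nonempty (G ≃* ProjectiveSpecialLinearGroup (Fin 2) (ZMod p))) ∨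
        Nonempty (G ≃* ProjectiveSpecialLinearGroup (Fin 2) (GaloisField p 3))) := by
  classical
  obtain ⟨p, hchar⟩ := CharP.exists F
  obtain ⟨f, hp, hF⟩ := FiniteField.card F p
  haveI : Fact p.Prime := ⟨hp⟩
  haveI := hchar
  have hq1 : Fintype.card F % 2 = 1 := by omega
  have hp2 : p ≠ 2 := fun hh => by
    subst hh
    rw [hF, Nat.pow_mod, Nat.mod_self, zero_pow f.ne_zero] at hq1
    simp at hq1
  have hfodd : Odd (f : ℕ) := by
    rcases Nat.even_or_odd (f : ℕ) with ⟨k, hk⟩ | ho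
    · exfalso
      have hpo : p ^ k % 2 = 1 := Nat.odd_iff.1 (Odd.pow (hp.odd_of_ne_two hp2))
      rw [hF, hk, pow_add, Nat.mul_mod] at h8
      have : p ^ k % 8 = 1 ∨ p ^ k % 8 = 3 ∨ p ^ k % 8 = 5 ∨ p ^ k % 8 = 7 := by omega
      rcases this with h1 | h1 | h1 | h1 <;> rw [h1] at h8 <;> omega
    · exact ho
  have hp8 : p % 8 = 3 ∨ p % 8 = 5 := by
    obtain ⟨k, hk⟩ := hfodd
    rw [hF, hk, pow_succ, pow_mul, Nat.mul_mod, Nat.pow_mod] at h8
    have h1 : p ^ 2 % 8 = 1 := by
      have : p % 2 = 1 := Nat.odd_iff.1 (hp.odd_of_ne_two hp2)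
      rw [Nat.pow_mod]
      rcases (show p % 8 = 1 ∨ p % 8 = 3 ∨ p % 8 = 5 ∨ p % 8 = 7 by omega) with h1 | h1 | h1 | h1 <;>
        rw [h1] <;> rfl
    rw [h1, one_pow] at h8
    simpa using h8
  refine ⟨p, inferInstance, hp8, ?_⟩
  set ψ := (MulAut.congr e).toMonoidHom.comp (MulAut.conjNormal (H := L) : G →* MulAut ↥L) with hψ
  have hψi : Function.Injective ψ := by
    refine (MulAut.congr e).injective.comp ?_
    refine (injective_iff_map_eq_one _).2 fun x hx => mem_bot.1 (hC ▸ mem_centralizer_iff.2 fun y hy => ?_)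
    have h1 : x * y * x⁻¹ = y := congrArg Subtype.val (DFunLike.congr_fun hx (⟨y, hy⟩ : L))
    exact (mul_inv_eq_iff_eq_mul.1 h1).symm
  set θ := (H56.fieldHom (F := F) (n := 2) le_rfl).comp ψ with hθ
  have hθL : ∀ l ∈ L, θ l = 1 := fun l hl => psi_mem L e hl
  have hPGL : Nat.card (ProjGenLinGroup (Fin 2) F) = 2 * Nat.card L := by
    rw [Linear.card_PGL_eq, Nat.card_congr e.toEquiv, Linear.card_SL_two,
      ← Linear.card_PSL_two_mul]
    congr 1
    exact Nat.gcd_eq_left (by omega)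
  have hker : θ.ker = L := by
    refine le_antisymm ?_ fun l hl => MonoidHom.mem_ker.2 (hθL l hl)
    have hle : θ.ker.map ψ ≤ (H56.pglToAut (F := F) (n := 2) le_rfl).range := by
      rintro _ ⟨x, hx, rfl⟩
      obtain ⟨g, σ, hg | ⟨h3, -⟩⟩ := H56.exists_decomp (le_refl 2) (ψ x)
      · have : σ = RingEquiv.refl F := by
          have h1 : H56.fieldHom (F := F) (n := 2) le_rfl (ψ x) = 1 := MonoidHom.mem_ker.1 hx
          rw [hg, H56.fieldHom_semiAut] at h1
          exact h1
        exact ⟨g, by rw [hg, this]; rfl⟩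
      · omega
    have hdvd : Nat.card θ.ker ∣ 2 * Nat.card L := by
      rw [← card_map_of_injective hψi, ← hPGL]
      refine (card_dvd_of_le hle).trans (dvd_of_eq ?_)
      rw [← Nat.card_congr (QuotientGroup.quotientKerEquivRange (H56.pglToAut (F := F) (le_refl 2))).toEquiv,
        H56.pglToAut_ker]
      rfl
    have hLle : L ≤ θ.ker := fun l hl => MonoidHom.mem_ker.2 (hθL l hl)
    rw [← relIndex_bot_left, ← relIndex_mul_relIndex ⊥ L θ.ker bot_le hLle, relIndex_bot_left,
      mul_comm 2] at hdvd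
    refine relIndex_eq_one.1 (Nat.eq_one_of_dvd_coprimes (Nat.coprime_two_left.2 hodd)
      (Nat.dvd_of_mul_dvd_mul_left Nat.card_pos hdvd) (relIndex_dvd_index_of_normal _ _))
  obtain ⟨eR⟩ := H56.ringAut_equiv (F := F) (p := p) (f := (f : ℕ)) f.pos hF
  have hidx : L.index ∣ (f : ℕ) := by
    rw [← hker, index_ker]
    refine (card_subgroup_dvd_card θ.range).trans (dvd_of_eq ?_)
    rw [Nat.card_congr eR.toEquiv, Nat.card_congr Multiplicative.toAdd, Nat.card_zmod]
  by_cases hf1 : (f : ℕ) = 1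
  · refine Or.inl ?_
    rw [hf1, Nat.dvd_one] at hidx
    haveI : Fintype (ZMod p) := inferInstance
    let r : F ≃+* ZMod p := FiniteField.ringEquivOfCardEq (by rw [hF, hf1, pow_one, ZMod.card])
    refine ⟨by rwa [hF, hf1, pow_one] at h5, ?_⟩
    exact ⟨((Subgroup.topEquiv.symm.trans (MulEquiv.subgroupCongr (index_eq_one.1 hidx).symm)).trans
      e).trans (H27.PermFamily.pslCongr r)⟩
  refine Or.inr ?_
  have hf3 : 3 ≤ (f : ℕ) := by
    have := f.pos
    rcases hfodd with ⟨k, hk⟩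
    omega
  -- the Sylow subgroup in the characteristic
  obtain ⟨U, hUc, hUel, hUsolv⟩ := unipotent_facts F p
  set V : Subgroup G := ((U : Subgroup _).map e.symm.toMonoidHom).map L.subtype with hV
  have hVc : Nat.card V = p ^ (f : ℕ) := by
    rw [hV, card_map_of_injective L.subtype_injective, card_map_of_injective e.symm.injective, hUc, hF]
  have hVp : IsPGroup p V := IsPGroup.of_card hVc
  have hVexp : ∀ x ∈ V, x ^ p = 1 := by
    rintro _ ⟨_, ⟨x, hx, rfl⟩, rfl⟩
    rw [← map_pow, ← map_pow, hUel.2 x hx, map_one, map_one]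
  obtain ⟨P, hVP⟩ := hVp.exists_le_sylow
  have hpL : p ∣ Nat.card L :=
    (dvd_pow_self p f.ne_zero).trans (hVc ▸ card_dvd_of_le (map_subtype_le _))
  have hPexp : ∀ x ∈ (P : Subgroup G), x ^ p = 1 := by
    rcases S4023.result (fun A B hA hB hAB => h p hp A B hA hB hAB) P with hc | hc | ⟨h2, -⟩ | ⟨-, -, -, hc⟩
    · exfalso
      haveI := hc
      haveI : IsCyclic V := isCyclic_of_injective (inclusion hVP) (inclusion_injective hVP)
      have h1 : Nat.card V ∣ p := by
        rw [← IsCyclic.exponent_eq_card]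
        exact Monoid.exponent_dvd_of_forall_pow_eq_one fun x => Subtype.ext (hVexp x x.2)
      rw [hVc] at h1
      have := Nat.le_of_dvd hp.pos h1
      have : p ^ 3 ≤ p ^ (f : ℕ) := Nat.pow_le_pow_right hp.pos hf3
      nlinarith [hp.two_le, Nat.mul_le_mul hp.two_le hp.two_le]
    · exact fun x hx => hc.2 x hx
    · exact absurd h2 hp2
    · intro x hx
      exact congrArg Subtype.val (hc ▸ Monoid.pow_exponent_eq_one (⟨x, hx⟩ : (P : Subgroup G)))
  have hPL : (P : Subgroup G) ≤ L := fun x hx => by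
    by_cases hx1 : x = 1
    · exact hx1 ▸ one_mem L
    · exact h.mem_of_prime L hp hpL (orderOf_eq_prime (hPexp x hx) hx1)
  have hPV : (P : Subgroup G) = V := by
    have hU' : ((P : Subgroup G).subgroupOf L).map e.toMonoidHom = (U : Subgroup _) := by
      refine U.is_maximal' ((P.isPGroup'.comap_of_injective L.subtype L.subtype_injective).map _) ?_
      intro u hu
      exact ⟨e.symm u, mem_subgroupOf.2 (hVP ⟨e.symm u, ⟨u, hu, rfl⟩, rfl⟩), e.apply_symm_apply u⟩
    refine le_antisymm (fun x hx => ?_) hVP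
    exact ⟨⟨x, hPL hx⟩, ⟨e ⟨x, hPL hx⟩, hU' ▸ ⟨⟨x, hPL hx⟩, hx, rfl⟩, e.symm_apply_apply _⟩, rfl⟩
  have hPel : IsElementaryAbelian p (P : Subgroup G) := by
    refine ⟨⟨⟨fun a b => Subtype.ext ?_⟩⟩, hPexp⟩
    obtain ⟨_, ⟨a', ha', rfl⟩, hae⟩ := (hPV ▸ a.2 : (a : G) ∈ V)
    obtain ⟨_, ⟨b', hb', rfl⟩, hbe⟩ := (hPV ▸ b.2 : (b : G) ∈ V)
    show (a : G) * b = b * a
    rw [← hae, ← hbe, ← map_mul, ← map_mul, ← map_mul, ← map_mul]
    exact congrArg (fun z => L.subtype (e.symm.toMonoidHom z))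
      (congrArg Subtype.val (hUel.1.is_comm.comm (⟨a', ha'⟩ : (U : Subgroup _)) ⟨b', hb'⟩))
  set N := normalizer ((P : Subgroup G) : Set G) with hN
  haveI : Group.IsSolvable ↥N := by
    let θN := θ.comp N.subtype
    haveI : Group.IsSolvable θN.range := Group.isSolvable_of_comm fun a b => Subtype.ext
      (eR.injective (by rw [Subgroup.coe_mul, Subgroup.coe_mul, map_mul, map_mul, mul_comm]))
    haveI : Group.IsSolvable (↥N ⧸ θN.ker) :=
      Group.isSolvable_of_isSolvable_injective (f := (QuotientGroup.quotientKerEquivRange θN).toMonoidHom)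
        (QuotientGroup.quotientKerEquivRange θN).injective
    haveI : Group.IsSolvable θN.ker := by
      have hmem : ∀ x : θN.ker, ((x : N) : G) ∈ L := fun x => hker ▸ x.2
      let φ : θN.ker →* ProjectiveSpecialLinearGroup (Fin 2) F :=
        e.toMonoidHom.comp (((N.subtype).comp θN.ker.subtype).codRestrict L hmem)
      have hφN : ∀ x, φ x ∈ normalizer ((U : Subgroup (ProjectiveSpecialLinearGroup (Fin 2) F)) :
          Set (ProjectiveSpecialLinearGroup (Fin 2) F)) := by
        intro x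
        refine mem_normalizer_fintype fun u hu => ?_
        have huV : ((e.symm u : L) : G) ∈ (P : Subgroup G) := hVP ⟨e.symm u, ⟨u, hu, rfl⟩, rfl⟩
        have h1 := (mem_normalizer_iff.1 (x : N).2 _).1 huV
        obtain ⟨_, ⟨v, hv, rfl⟩, hve⟩ := (hPV ▸ h1)
        have h2 : e.symm v = ⟨((x : N) : G), hmem x⟩ * e.symm u * (⟨((x : N) : G), hmem x⟩)⁻¹ :=
          Subtype.ext hve
        have h3 := congrArg e h2
        rw [e.apply_symm_apply, map_mul, map_mul, map_inv, e.apply_symm_apply] at h3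
        exact h3 ▸ hv
      haveI := hUsolv
      refine Group.isSolvable_of_isSolvable_injective (f := φ.codRestrict _ hφN)
        ((MonoidHom.injective_codRestrict _ _ _).2 (e.injective.comp ?_))
      exact fun a b hab => Subtype.ext (Subtype.ext (congrArg (fun z : L => (z : G)) hab))
    exact (Group.isSolvable_iff_subgroup_quotient θN.ker).2 ⟨inferInstance, inferInstance⟩
  haveI : (pPrimeCore p ↥N).Characteristic := Cores.pPrimeCore_characteristic
  have hf : (f : ℕ) = 3 := by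
    rcases S4025.result (fun A B hA hB hAB => h p hp A B hA hB hAB) P (f : ℕ) hf3 hPel
      (by rw [← hVc, hPV]) N rfl inferInstance with ⟨h3, -⟩ | ⟨-, h2, -⟩
    · exact h3
    · exact absurd h2 hp2
  rw [hf] at hidx
  rcases (Nat.dvd_prime Nat.prime_three).1 hidx with hi | hi
  · haveI : Fintype (GaloisField p 3) := Fintype.ofFinite _
    let r : F ≃+* GaloisField p 3 := FiniteField.ringEquivOfCardEq (by
      rw [hF, hf, ← Nat.card_eq_fintype_card, GaloisField.card p 3 (by norm_num)])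
    exact ⟨((Subgroup.topEquiv.symm.trans (MulEquiv.subgroupCongr (index_eq_one.1 hi).symm)).trans
      e).trans (H27.PermFamily.pslCongr r)⟩
  exfalso
  haveI : Fact (Nat.Prime 3) := ⟨Nat.prime_three⟩
  have hR : ψ.range.index = 2 := by
    refine Nat.eq_of_mul_eq_mul_left (Nat.card_pos (α := ψ.range)) ?_
    rw [card_mul_index, ← Nat.card_congr (MonoidHom.ofInjective hψi).toEquiv,
      S0813.result p (f : ℕ) f.pos hF 2 le_rfl (fun _ => by rw [← hF]; omega), if_pos rfl, one_mul,
      hf, hPGL, ← card_mul_index L, hi]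
    ring
  obtain ⟨σ, hσ1, hσ3⟩ : ∃ σ : RingAut F, σ ≠ 1 ∧ σ ^ 3 = 1 := by
    haveI : Finite (RingAut F) := Finite.of_equiv _ eR.symm.toEquiv
    obtain ⟨σ, hσ⟩ := exists_prime_orderOf_dvd_card' (G := RingAut F) 3 (by
      rw [Nat.card_congr eR.toEquiv, Nat.card_congr Multiplicative.toAdd, Nat.card_zmod, hf])
    exact ⟨σ, fun h1 => by rw [h1, orderOf_one] at hσ; omega, hσ ▸ pow_orderOf_eq_one σ⟩
  have hsemi : ∀ j : ℕ, (H56.semiAut (1 : GL (Fin 2) F) σ) ^ j = H56.semiAut 1 (σ ^ j) := by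
    intro j
    induction j with
    | zero => rw [pow_zero, pow_zero]; exact H56.semiAut_one.symm
    | succ j ih => rw [pow_succ, ih, H56.semiAut_mul, pow_succ, map_one, mul_one]; rfl
  set φ := H56.semiAut (1 : GL (Fin 2) F) σ
  have hφ3 : φ ^ 3 = 1 := by rw [hsemi, hσ3]; exact H56.semiAut_one
  obtain ⟨q, hq⟩ : φ ∈ ψ.range := by
    have h2 := mul_mem (Subgroup.sq_mem_of_index_two hR φ) (Subgroup.sq_mem_of_index_two hR φ)
    rwa [← pow_add, pow_succ, hφ3, one_mul] at h2
  have hq1 : θ q = σ := by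
    show H56.fieldHom (F := F) (n := 2) le_rfl (ψ q) = σ
    rw [hq, H56.fieldHom_semiAut]
  have hqo : orderOf q = 3 := orderOf_eq_prime (hψi (by rw [map_pow, hq, hφ3, map_one])) fun hh => by
    rw [hh, map_one] at hq1
    exact hσ1 hq1.symm
  have h3L : 3 ∣ Nat.card L := by
    have h1 : 3 ∣ Fintype.card F * (Fintype.card F ^ 2 - 1) := by
      rcases (show Fintype.card F % 3 = 0 ∨ Fintype.card F % 3 = 1 ∨ Fintype.card F % 3 = 2 by omega)
        with h0 | h0 | h0
      · exact dvd_mul_of_dvd_left (Nat.dvd_of_mod_eq_zero h0) _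
      all_goals
        refine dvd_mul_of_dvd_right ?_ _
        have : Fintype.card F ^ 2 % 3 = 1 := by rw [Nat.pow_mod, h0]
        omega
    rw [← Linear.card_SL_two, ← Linear.card_PGL_eq, hPGL] at h1
    exact (Nat.Coprime.dvd_mul_left (by norm_num)).1 h1
  exact hσ1 (hq1 ▸ hθL q (h.mem_of_prime L Nat.prime_three h3L hqo))

end Cfsg.Agent.H80.EqualOrder
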