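import Cfsg.Agent.H80.EqualOrder.Bender
import Cfsg.Agent.H25.QuaternionSylow
import Cfsg.Agent.S0201
import Cfsg.Agent.S3378
import Mathlib.GroupTheory.SpecificGroups.Alternating.Simple

/-!
# Equal order subgroups conjugate: four-groups and quaternion groups
-/

set_option autoImplicit false
set_option linter.style.haveILetI false

namespace Cfsg.Agent.H80.EqualOrder

open Subgroup Cfsg

universe u

variable {G : Type u} [Group G] [Finite G]

theorem EqOrd.four_group (h : EqOrd G) (hO : oddCore G = ⊥) (S : Sylow 2 G)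
    (hel : IsElementaryAbelian 2 (S : Subgroup G))
    (hcard : Nat.card (S : Subgroup G) = 2 ^ 2) :
    ((S : Subgroup G).Normal ∧ Nonempty (G ≃* alternatingGroup (Fin 4))) ∨
      Nonempty (G ≃* alternatingGroup (Fin 5)) := by
  by_cases hN : normalizer ((S : Subgroup G) : Set G) = ⊤
  · haveI : (S : Subgroup G).Normal := normalizer_eq_top_iff.1 hN
    exact Or.inl ⟨inferInstance, h.primary.two_normal hO S hel (by rw [hcard]; rfl)⟩
  · exact Or.inr (h.two_nonnormal hO S hel hcard hN)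

theorem q8_unique : (∀ x y : QuaternionGroup 2, x ^ 2 = 1 → y ^ 2 = 1 → x ≠ 1 → y ≠ 1 → x = y) ∧
    ∀ x : QuaternionGroup 2, x ^ 4 = 1 := by
  decide +kernel

theorem q8_inv : ∀ c y : QuaternionGroup 2, c ^ 2 ≠ 1 → (∀ k : Fin 4, y ≠ c ^ (k : ℕ)) →
    (∀ k : Fin 4, c ≠ y ^ (k : ℕ)) ∧ y ^ 2 = c ^ 2 ∧ y * c * y⁻¹ = c⁻¹ := by
  decide +kernel

theorem q8_third : ∀ c y w : QuaternionGroup 2, c ^ 2 ≠ 1 → (∀ k : Fin 4, y ≠ c ^ (k : ℕ)) →
    (∀ k : Fin 4, w ≠ c ^ (k : ℕ)) → (∀ k : Fin 4, w ≠ y ^ (k : ℕ)) →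
    w = c * y ∨ w = y * c := by
  decide +kernel

theorem a5_not_solvable : ¬ Group.IsSolvable (alternatingGroup (Fin 5)) := by
  haveI : IsSimpleGroup (alternatingGroup (Fin 5)) := alternatingGroup.isSimpleGroup (by simp)
  intro hs
  obtain ⟨a, b, hab⟩ : ∃ a b : alternatingGroup (Fin 5), a * b ≠ b * a := by decide +kernel
  exact hab (IsSimpleGroup.comm_iff_isSolvable.2 hs a b)

/-- An extension of `Q₈` by an element of order 3 permuting the cyclic subgroups of order 4. -/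
theorem sl23_of (h24 : Nat.card G = 24) (S : Subgroup G) (e : ↥S ≃* QuaternionGroup 2)
    {c g : G} (hc : c ∈ S) (hy : g * c * g⁻¹ ∈ S) (hg : g ∉ S) (hg3 : g ^ 3 = 1)
    (hc2 : c ^ 2 ≠ 1) (hne : g * c * g⁻¹ ∉ zpowers c)
    (hshift : g * (g * c * g⁻¹) * g⁻¹ = c * (g * c * g⁻¹)) :
    Nonempty (G ≃* Matrix.SpecialLinearGroup (Fin 2) (ZMod 3)) := by
  set y := g * c * g⁻¹
  obtain ⟨-, h1, h2⟩ := q8_inv (e ⟨c, hc⟩) (e ⟨y, hy⟩)
    (fun hh => hc2 (congrArg Subtype.val (e.injective (by rw [map_pow, hh, map_one]) :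
      (⟨c, hc⟩ : ↥S) ^ 2 = 1)))
    (fun k hh => hne (by
      rw [← map_pow] at hh
      rw [show y = c ^ (k : ℕ) from congrArg Subtype.val (e.injective hh)]
      exact npow_mem_zpowers c k))
  rw [← map_pow, ← map_pow] at h1
  rw [← map_inv, ← map_inv, ← map_mul, ← map_mul] at h2
  have hrel : H25.SL23Rel c g := ⟨hg3,
    congrArg Subtype.val (e.injective (by rw [map_pow, q8_unique.2, map_one]) :
      (⟨c, hc⟩ : ↥S) ^ 4 = 1),
    congrArg Subtype.val (e.injective h1), congrArg Subtype.val (e.injective h2), hshift⟩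
  obtain ⟨f, hf, -, -⟩ := H25.exists_model_hom hrel hc2 (fun hm => hg ((closure_le _).2 (by
    rintro z (rfl | rfl) <;> assumption) hm))
  obtain ⟨eM⟩ := H25.nonempty_model_equiv_SL
  refine ⟨(MulEquiv.ofBijective f ((Nat.bijective_iff_injective_and_card f).2 ⟨hf, ?_⟩)).symm.trans eM⟩
  rw [h24, SemidirectProduct.card, Nat.card_eq_fintype_card, QuaternionGroup.card,
    Nat.card_congr Multiplicative.toAdd, Nat.card_zmod]

/-- A group with quaternion Sylow subgroup of order 8 over the same group modulo its centre. -/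
theorem quaternion_cases (hO : oddCore G = ⊥) (S : Sylow 2 G)
    (e : (S : Subgroup G) ≃* QuaternionGroup 2) (R : Prop)
    (hcase : ∀ T : Sylow 2 (G ⧸ Subgroup.center G), oddCore (G ⧸ Subgroup.center G) = ⊥ →
      IsElementaryAbelian 2 (T : Subgroup (G ⧸ Subgroup.center G)) →
      Nat.card (T : Subgroup (G ⧸ Subgroup.center G)) = 2 ^ 2 →
      ((T : Subgroup (G ⧸ Subgroup.center G)).Normal ∧
        Nonempty (G ⧸ Subgroup.center G ≃* alternatingGroup (Fin 4))) ∨ R) :
    Nonempty (G ≃* Matrix.SpecialLinearGroup (Fin 2) (ZMod 3)) ∨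
      (Nat.card (Subgroup.center G) = 2 ∧ R) := by
  haveI : Fact (Nat.Prime 2) := ⟨Nat.prime_two⟩
  haveI : Fact (Nat.Prime 3) := ⟨Nat.prime_three⟩
  classical
  set Z := Subgroup.center G
  have hZ : Nat.card Z = 2 := S0201.result S 0 e fun N hN hodd => by
    haveI := hN
    exact le_bot_iff.1 (hO ▸ Cores.le_oddCore hodd)
  have hZp : IsPGroup 2 Z := IsPGroup.of_card (n := 1) (by rw [hZ]; rfl)
  have hZS : Z ≤ S := hZp.le_sylow_of_normal S
  have hS8 : Nat.card (S : Subgroup G) = 8 := by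
    rw [Nat.card_congr e.toEquiv, Nat.card_eq_fintype_card, QuaternionGroup.card]
  obtain ⟨z, hz, hz1⟩ := Z.bot_or_exists_ne_one.resolve_left fun hb => by
    rw [hb, card_bot] at hZ; omega
  have hzo : z ^ 2 = 1 := orderOf_dvd_iff_pow_eq_one.1 (hZ ▸ Z.orderOf_dvd_natCard hz)
  have hinv : ∀ x ∈ (S : Subgroup G), x ^ 2 = 1 → x ≠ 1 → x = z := fun x hx hx2 hx1 =>
    congrArg Subtype.val (e.injective (q8_unique.1 (e ⟨x, hx⟩) (e ⟨z, hZS hz⟩)
      (by rw [← map_pow, show (⟨x, hx⟩ : (S : Subgroup G)) ^ 2 = 1 from Subtype.ext hx2, map_one])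
      (by rw [← map_pow, show (⟨z, hZS hz⟩ : (S : Subgroup G)) ^ 2 = 1 from Subtype.ext hzo, map_one])
      (fun hh => hx1 (congrArg Subtype.val ((map_eq_one_iff _ e.injective).1 hh)))
      (fun hh => hz1 (congrArg Subtype.val ((map_eq_one_iff _ e.injective).1 hh)))))
  have h4 : ∀ x ∈ (S : Subgroup G), x ^ 4 = 1 := fun x hx =>
    congrArg Subtype.val (e.injective (by rw [map_pow, q8_unique.2, map_one]) :
      (⟨x, hx⟩ : (S : Subgroup G)) ^ 4 = 1)
  have hsq : ∀ x ∈ (S : Subgroup G), x ^ 2 ∈ Z := fun x hx => by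
    by_cases h2 : x ^ 2 = 1
    · rw [h2]; exact one_mem _
    · rw [hinv _ (pow_mem hx 2) (by rw [← pow_mul]; exact h4 x hx) h2]; exact hz
  let π := QuotientGroup.mk' Z
  have hπ : Function.Surjective π := QuotientGroup.mk'_surjective Z
  let T : Sylow 2 (G ⧸ Z) := S.mapSurjective hπ
  have hT : (T : Subgroup (G ⧸ Z)) = (S : Subgroup G).map π := rfl
  have hTidx : (T : Subgroup (G ⧸ Z)).index = (S : Subgroup G).index :=
    index_map_eq _ hπ (by rw [QuotientGroup.ker_mk']; exact hZS)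
  have hGc : Nat.card G = Nat.card (G ⧸ Z) * 2 := by
    rw [card_eq_card_quotient_mul_card_subgroup Z, hZ]
  have hTc : Nat.card (T : Subgroup (G ⧸ Z)) = 2 ^ 2 := by
    have h1 := (T : Subgroup (G ⧸ Z)).card_mul_index
    have h2 := (S : Subgroup G).card_mul_index
    rw [hTidx] at h1
    rw [hS8, hGc, ← h1] at h2
    refine Nat.eq_of_mul_eq_mul_right (show 0 < (S : Subgroup G).index * 2 from
      Nat.mul_pos (Nat.pos_of_ne_zero index_ne_zero_of_finite) two_pos) ?_
    rw [← mul_assoc, ← h2]; ring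
  have hsqT : ∀ a ∈ (T : Subgroup (G ⧸ Z)), a ^ 2 = 1 := by
    rintro _ ⟨x, hx, rfl⟩
    rw [← map_pow]
    exact (QuotientGroup.eq_one_iff _).2 (hsq x hx)
  have hel : IsElementaryAbelian 2 (T : Subgroup (G ⧸ Z)) := by
    refine ⟨⟨⟨fun a b => ?_⟩⟩, hsqT⟩
    have hi : ∀ c : (T : Subgroup (G ⧸ Z)), c⁻¹ = c := fun c =>
      inv_eq_of_mul_eq_one_right (Subtype.ext (by simpa [sq] using hsqT c c.2))
    calc a * b = (a * b)⁻¹ := (hi _).symm
      _ = b * a := by rw [mul_inv_rev, hi, hi]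
  have hOq : oddCore (G ⧸ Z) = ⊥ := by
    haveI : (oddCore (G ⧸ Z)).Characteristic := Cores.pPrimeCore_characteristic
    set M := (oddCore (G ⧸ Z)).comap π
    have hZM : Z ≤ M := fun x hx => by
      show π x ∈ oddCore (G ⧸ Z)
      rw [show π x = 1 from (QuotientGroup.eq_one_iff x).2 hx]; exact one_mem _
    have hrel : Z.relIndex M = Nat.card (oddCore (G ⧸ Z)) := by
      have h1 := relIndex_mul_index hZM
      rw [index_comap_of_surjective _ hπ, ← card_mul_index (oddCore (G ⧸ Z)) |>.trans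
        (index_eq_card Z).symm] at h1
      exact Nat.eq_of_mul_eq_mul_right (Nat.pos_of_ne_zero index_ne_zero_of_finite) h1
    have hMZ : M = Z := eq_of_central_odd_index hO hZM hZp
      (fun m _ x hx => mem_center_iff.1 hx m) (hrel ▸ Cores.odd_card_oddCore)
    rw [← map_comap_eq_self_of_surjective hπ (oddCore (G ⧸ Z))]
    rw [show (oddCore (G ⧸ Z)).comap π = Z from hMZ, QuotientGroup.map_mk'_self]
  rcases hcase T hOq hel hTc with ⟨hTn, ⟨e4⟩⟩ | hR
  · left
    haveI := hTn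
    haveI : IsMulCommutative (T : Subgroup (G ⧸ Z)) := hel.1
    have h24 : Nat.card G = 24 := by
      rw [hGc, Nat.card_congr e4.toEquiv, nat_card_alternatingGroup, Nat.card_eq_fintype_card,
        Fintype.card_fin]
      rfl
    haveI hSn : (S : Subgroup G).Normal := by
      have : (S : Subgroup G) = (T : Subgroup (G ⧸ Z)).comap π := by
        rw [hT, comap_map_eq_self]
        rw [QuotientGroup.ker_mk']; exact hZS
      rw [this]; exact hTn.comap π
    obtain ⟨g, hg⟩ := exists_prime_orderOf_dvd_card' (G := G) 3 (by rw [h24]; norm_num)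
    have hg3 : g ^ 3 = 1 := hg ▸ pow_orderOf_eq_one g
    have hgS : g ∉ (S : Subgroup G) := fun hh => by
      have := (S : Subgroup G).orderOf_dvd_natCard hh
      rw [hS8, hg] at this; norm_num at this
    obtain ⟨c, hc, hne⟩ : ∃ c ∈ (S : Subgroup G), g * c * g⁻¹ ∉ zpowers c := by
      by_contra hcon
      push Not at hcon
      have hcen : π g ∈ centralizer ((T : Subgroup (G ⧸ Z)) : Set (G ⧸ Z)) := by
        refine mem_centralizer_iff.2 ?_
        rintro _ ⟨c, hc, rfl⟩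
        obtain ⟨k, -, hk⟩ := (Nat.dvd_prime_pow Nat.prime_two).1
          (show orderOf c ∣ 2 ^ 3 by simpa [hS8] using (S : Subgroup G).orderOf_dvd_natCard hc)
        have := H25.conj_eq_of_zpowers (by rw [hg]; decide) k hk (hcon c hc)
        rw [← map_mul, ← map_mul]
        exact congrArg π (mul_inv_eq_iff_eq_mul.1 this).symm
      rw [centralizer_eq hOq T] at hcen
      obtain ⟨x, hx, hxg⟩ := hcen
      refine hgS ?_
      have : x⁻¹ * g ∈ Z := QuotientGroup.eq.1 hxg
      simpa using mul_mem hx (hZS this)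
    have hcS : ∀ {x}, x ∈ (S : Subgroup G) → g * x * g⁻¹ ∈ (S : Subgroup G) :=
      fun hx => hSn.conj_mem _ hx g
    have hc2 : c ^ 2 ≠ 1 := fun hh => hne (by
      by_cases hc1 : c = 1
      · simp [hc1]
      · rw [hinv c hc hh hc1, mem_center_iff.1 hz g, mul_inv_cancel_right]
        exact mem_zpowers z)
    set y := g * c * g⁻¹ with hy
    set w := g * y * g⁻¹ with hw
    have hwc : g * w * g⁻¹ = c := by
      rw [hw, hy, show g * (g * (g * c * g⁻¹) * g⁻¹) * g⁻¹ = g ^ 3 * c * (g ^ 3)⁻¹ by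
        rw [pow_succ, pow_two]; group, hg3]
      simp
    have hyS := hcS hc
    have hwS := hcS hyS
    have hpow : ∀ {a b : G} (ha : a ∈ (S : Subgroup G)) (hb : b ∈ (S : Subgroup G)),
        b ∉ zpowers a → ∀ k : Fin 4, e ⟨b, hb⟩ ≠ e ⟨a, ha⟩ ^ (k : ℕ) := by
      intro a b ha hb hba k hk
      rw [← map_pow] at hk
      refine hba ?_
      rw [show b = a ^ (k : ℕ) from congrArg Subtype.val (e.injective hk)]
      exact npow_mem_zpowers a k
    have hmem : ∀ {a b : G}, b ∈ zpowers a → g * b * g⁻¹ ∈ zpowers (g * a * g⁻¹) := by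
      intro a b hb
      obtain ⟨i, rfl⟩ := mem_zpowers_iff.1 hb
      rw [← conj_zpow]
      exact ⟨i, rfl⟩
    have hec2 : e ⟨c, hc⟩ ^ 2 ≠ 1 := fun hh => hc2 (congrArg Subtype.val
      (e.injective (by rw [map_pow, hh, map_one]) : (⟨c, hc⟩ : (S : Subgroup G)) ^ 2 = 1))
    have hcy : c ∉ zpowers y := fun hh => by
      obtain ⟨h0, -, -⟩ := q8_inv _ (e ⟨y, hyS⟩) hec2 (hpow hc hyS hne)
      have h4y : orderOf y ∣ 4 := orderOf_dvd_of_pow_eq_one (h4 y hyS)
      rw [mem_zpowers_iff_mem_range_orderOf] at hh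
      obtain ⟨k, hk, hkc⟩ := Finset.mem_image.1 hh
      have hk4 : k < 4 := (Finset.mem_range.1 hk).trans_le (Nat.le_of_dvd (by norm_num) h4y)
      refine h0 ⟨k, hk4⟩ ?_
      rw [← map_pow]
      exact congrArg e (Subtype.ext hkc.symm)
    have hwyn : w ∉ zpowers y := by
      intro hh
      have h1 := hmem hh
      rw [hwc, ← hw] at h1
      refine hcy ?_
      obtain ⟨i, hi⟩ := mem_zpowers_iff.1 h1
      obtain ⟨j, hj⟩ := mem_zpowers_iff.1 hh
      rw [← hi, ← hj, ← zpow_mul]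
      exact ⟨_, rfl⟩
    have hwcn : w ∉ zpowers c := fun hh => hcy (hwc ▸ hy ▸ hmem hh)
    rcases q8_third _ (e ⟨y, hyS⟩) (e ⟨w, hwS⟩) hec2 (hpow hc hyS hne) (hpow hc hwS hwcn)
      (hpow hyS hwS hwyn) with hh | hh
    · rw [← map_mul] at hh
      exact sl23_of h24 _ e hc hyS hgS hg3 hc2 hne (congrArg Subtype.val (e.injective hh))
    · rw [← map_mul] at hh
      have hwv : w = y * c := congrArg Subtype.val (e.injective hh)
      refine sl23_of h24 _ e (c := c⁻¹) (inv_mem hc) (hcS (inv_mem hc)) hgS hg3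
        (by rw [inv_pow, ne_eq, inv_eq_one]; exact hc2)
        (by rw [zpowers_inv, ← conj_inv, inv_mem_iff]; exact hne) ?_
      rw [← conj_inv, ← hy, ← conj_inv, ← hw, hwv, mul_inv_rev]
  · exact Or.inr ⟨hZ, hR⟩

theorem EqOrd.quaternion (h : EqOrd G) (hO : oddCore G = ⊥) (S : Sylow 2 G)
    (e : (S : Subgroup G) ≃* QuaternionGroup 2) :
    Nonempty (G ≃* Matrix.SpecialLinearGroup (Fin 2) (ZMod 3)) ∨
      Nonempty (G ≃* Matrix.SpecialLinearGroup (Fin 2) (ZMod 5)) := by
  haveI : Fact (Nat.Prime 2) := ⟨Nat.prime_two⟩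
  rcases quaternion_cases hO S e (Nonempty (G ⧸ Subgroup.center G ≃* alternatingGroup (Fin 5)))
      (fun T hOq hel hTc => (h.quotient _).four_group hOq T hel hTc) with h3 | ⟨hZ, ⟨e5⟩⟩
  · exact Or.inl h3
  · right
    refine S3378.result.1 G (by
      rw [card_eq_card_quotient_mul_card_subgroup (Subgroup.center G), hZ,
        Nat.card_congr e5.toEquiv, nat_card_alternatingGroup, Nat.card_eq_fintype_card,
        Fintype.card_fin]
      rfl) (fun hs => ?_) fun P => ⟨(P.equiv S).trans e⟩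
    haveI := hs
    exact a5_not_solvable (Group.isSolvable_of_surjective
      (f := e5.toMonoidHom.comp (QuotientGroup.mk' _))
      (e5.surjective.comp (QuotientGroup.mk'_surjective _)))

end Cfsg.Agent.H80.EqualOrder
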