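import Cfsg.Agent.H80.EqualOrder.OddPSL
import Cfsg.Agent.H84.FrobeniusCount
import Cfsg.Agent.H29.OW.Fixity

/-!
# Equal order `p`-subgroups conjugate: no socle with the order of a Ree group

If the socle has the order of a Ree group then its Sylow 3-subgroups would be elementary abelian,
and counting commuting pairs of involutions and elements of order 3 contradicts Frobenius' theorem.
-/

set_option autoImplicit false
set_option linter.style.haveILetI false

namespace Cfsg.Agent.H80.EqualOrder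

open Subgroup Cfsg Matrix

universe u

variable {G : Type u} [Group G] [Finite G]

theorem card_pow_three {X : Type*} [Group X] [Finite X] :
    Nat.card {x : X // x ^ 3 = 1} = Nat.card {x : X // orderOf x = 3} + 1 := by
  classical
  haveI : Fact (Nat.Prime 3) := ⟨Nat.prime_three⟩
  haveI := Fintype.ofFinite X
  rw [Nat.card_eq_fintype_card, Nat.card_eq_fintype_card, Fintype.card_subtype, Fintype.card_subtype]
  have h1 : (Finset.univ.filter fun x : X => x ^ 3 = 1) =
      insert 1 (Finset.univ.filter fun x : X => orderOf x = 3) := by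
    ext x
    simp only [Finset.mem_filter, Finset.mem_univ, true_and, Finset.mem_insert]
    refine ⟨fun hx => ?_, ?_⟩
    · by_cases hx1 : x = 1
      · exact Or.inl hx1
      · exact Or.inr (orderOf_eq_prime hx hx1)
    · rintro (rfl | hx)
      · exact one_pow 3
      · exact hx ▸ pow_orderOf_eq_one x
  rw [h1, Finset.card_insert_of_notMem (by simp)]

/-- There are at most `q²` elements with cube one in `PSL₂(q)` in characteristic 3. -/
theorem card_order_three_psl (F : Type) [Field F] [Fintype F] [CharP F 3] :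
    Nat.card {x : ProjectiveSpecialLinearGroup (Fin 2) F // orderOf x = 3} ≤
      (Fintype.card F + 1) * (Fintype.card F - 1) := by
  classical
  haveI : Fact (Nat.Prime 3) := ⟨Nat.prime_three⟩
  set V := Linear.Dickson.cen (Linear.Dickson.stdUni :
    ProjectiveSpecialLinearGroup (Fin 2) F) with hV
  set B := Linear.Dickson.borel F
  let f : (ProjectiveSpecialLinearGroup (Fin 2) F ⧸ B) × {v : V // v ≠ 1} →
      ProjectiveSpecialLinearGroup (Fin 2) F :=
    fun p => p.1.out * ((p.2 : V) : ProjectiveSpecialLinearGroup (Fin 2) F) * p.1.out⁻¹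
  have hle : Nat.card {x : ProjectiveSpecialLinearGroup (Fin 2) F // orderOf x = 3} ≤
      Nat.card (Set.range f) := by
    refine Nat.card_le_card_of_injective (fun x => ⟨x.1, ?_⟩) fun a b hab =>
      Subtype.ext (congrArg (fun z : Set.range f => (z : ProjectiveSpecialLinearGroup (Fin 2) F)) hab)
    have hx1 : x.1 ≠ 1 := fun hh => by
      have := x.2
      rw [hh, orderOf_one] at this
      omega
    have huni : Linear.Dickson.IsUni x.1 := by
      by_contra hu
      refine Linear.Dickson.coprime_card_cen 3 hu ?_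
      have := Subgroup.orderOf_dvd_natCard _ (Linear.Dickson.mem_cen_self x.1)
      rwa [x.2] at this
    obtain ⟨g, hg⟩ := Linear.Dickson.exists_conj_stdUni hx1 huni
    set c : ProjectiveSpecialLinearGroup (Fin 2) F ⧸ B := ↑(g⁻¹) with hc
    have hb : c.out⁻¹ * g⁻¹ ∈ B := QuotientGroup.eq.1 (by rw [QuotientGroup.out_eq'])
    have hv : c.out⁻¹ * g⁻¹ * (g * x.1 * g⁻¹) * (c.out⁻¹ * g⁻¹)⁻¹ ∈ V :=
      Linear.Dickson.conj_mem_cen_stdUni hb hg
    refine ⟨(c, ⟨⟨_, hv⟩, fun hh => hx1 ?_⟩), ?_⟩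
    · have := congrArg Subtype.val hh
      simpa [mul_assoc, mul_eq_one_iff_eq_inv] using this
    · show c.out * _ * c.out⁻¹ = x.1
      group
  refine hle.trans ((Finite.card_range_le f).trans ?_)
  rw [Nat.card_prod]
  refine Nat.mul_le_mul (le_of_eq ?_) ?_
  · exact (index_eq_card B).symm.trans Linear.Dickson.index_borel
  · haveI := Fintype.ofFinite V
    rw [Nat.card_eq_fintype_card, Fintype.card_subtype_compl, Fintype.card_subtype_eq,
      ← Nat.card_eq_fintype_card, hV, Linear.Dickson.card_cen_stdUni]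

/-- The arithmetic contradiction. -/
theorem no_solution {q m nX d : ℕ} (hq : 27 ≤ q) (hm : m ≤ (q + 1) * (q - 1)) (hmq : q ∣ m + 1)
    (hnX : q ^ 3 ∣ nX + 1) (heq : q * q * m = nX * d + q * m - m) : False := by
  have hmpos : 1 ≤ m := by
    rcases Nat.eq_zero_or_pos m with rfl | h0
    · have := Nat.le_of_dvd one_pos hmq; omega
    · exact h0
  obtain ⟨k, hk⟩ := hnX
  obtain ⟨j, hj⟩ := hmq
  have h1 : (1 : ℤ) ≤ q := by omega
  have heq' : ((q : ℤ) * q - q + 1) * m = nX * d := by
    have hsub : m ≤ q * m := Nat.le_mul_of_pos_left _ (by omega)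
    have h2 : q * q * m + m = nX * d + q * m := by omega
    zify at h2
    linarith
  have hk' : (nX : ℤ) + 1 = q ^ 3 * k := by exact_mod_cast hk
  have hj' : (m : ℤ) + 1 = q * j := by exact_mod_cast hj
  have hm' : (m : ℤ) ≤ (q : ℤ) ^ 2 - 1 := by
    have : (m : ℤ) ≤ ((q + 1) * (q - 1) : ℕ) := by exact_mod_cast hm
    push_cast [Nat.cast_sub (show 1 ≤ q by omega)] at this
    linarith
  have hk1 : (1 : ℤ) ≤ k := by
    rcases Nat.eq_zero_or_pos k with rfl | h0
    · omega
    · exact_mod_cast h0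
  -- `d ≡ 1 (mod q)` and `d < q`
  have hd : ∃ e : ℤ, (d : ℤ) - 1 = q * e :=
    ⟨(q : ℤ) ^ 2 * k * d - j * ((q : ℤ) * q - q + 1) + q - 1, by linear_combination heq' +
      (d : ℤ) * hk' - ((q : ℤ) * q - q + 1) * hj'⟩
  have hdq : (d : ℤ) < q := by
    by_contra hcon
    push Not at hcon
    have h3 : ((q : ℤ) ^ 3 * k - 1) * q ≤ nX * d := by
      rw [show ((q : ℤ) ^ 3 * k - 1) = nX by linarith]
      exact mul_le_mul_of_nonneg_left hcon (by positivity)
    have h4 : (q : ℤ) ^ 3 ≤ q ^ 3 * k := le_mul_of_one_le_right (by positivity) hk1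
    have h5 : ((q : ℤ) * q - q + 1) * m ≤ ((q : ℤ) * q - q + 1) * (q ^ 2 - 1) :=
      mul_le_mul_of_nonneg_left hm' (by nlinarith)
    have h6 : ((q : ℤ) ^ 3 - 1) * q ≤ ((q : ℤ) ^ 3 * k - 1) * q :=
      mul_le_mul_of_nonneg_right (by linarith) (by linarith)
    nlinarith
  obtain ⟨e, he⟩ := hd
  have hd1 : (d : ℤ) = 1 := by
    have hd0 : (0 : ℤ) ≤ d := by positivity
    rcases lt_trichotomy e 0 with h0 | h0 | h0
    · nlinarith [mul_le_mul_of_nonneg_left (show e ≤ -1 by omega) (show (0 : ℤ) ≤ q by linarith)]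
    · rw [h0] at he; linarith
    · nlinarith [mul_le_mul_of_nonneg_left (show 1 ≤ e by omega) (show (0 : ℤ) ≤ q by linarith)]
  rw [hd1, mul_one] at heq'
  have h7 : ((j : ℤ) + 1) * (1 - q) = q ^ 2 * (k - j) := by
    have hq0 : (q : ℤ) ≠ 0 := by linarith
    refine mul_left_cancel₀ hq0 ?_
    linear_combination heq' + hk' + (-((q : ℤ) * q - q + 1)) * hj'
  have h9 : (q : ℤ) ^ 2 ∣ (j : ℤ) + 1 := by
    refine ⟨(j + 1) + ((k : ℤ) - j) * (1 + q), ?_⟩
    linear_combination (1 + (q : ℤ)) * h7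
  have h10 : (j : ℤ) + 1 ≤ q + 1 := by
    have : (q : ℤ) * j ≤ q * q := by nlinarith
    have := le_of_mul_le_mul_left this (by linarith)
    linarith
  have := Int.le_of_dvd (by positivity) h9
  nlinarith

theorem EqPOrd.no_ree (h : EqPOrd G) (L : Subgroup G) [hLn : L.Normal] {F : Type} [Field F]
    [Fintype F] {k : ℕ} (hk : 3 ≤ k) (hF : Fintype.card F = 3 ^ k)
    (hcard : Nat.card ↥L = (3 ^ k) ^ 3 * ((3 ^ k) ^ 3 + 1) * (3 ^ k - 1))
    (t : ↥L) (ht : orderOf t = 2) (hfus : ∀ s : ↥L, orderOf s = 2 → IsConj t s)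
    (e : centralizer ({t} : Set ↥L) ≃*
      Multiplicative (ZMod 2) × ProjectiveSpecialLinearGroup (Fin 2) F) : False := by
  classical
  haveI : Fact (Nat.Prime 3) := ⟨Nat.prime_three⟩
  haveI : CharP F 3 := charP_of_card_eq_prime_pow (f := k) hF
  set q := 3 ^ k with hqdef
  have hq27 : 27 ≤ q := (Nat.pow_le_pow_right (by norm_num) hk : 3 ^ 3 ≤ 3 ^ k)
  have hq3L : q ^ 3 ∣ Nat.card ↥L := hcard ▸ (dvd_mul_right _ _).mul_right _
  -- the 3-subgroups are elementary abelian
  obtain ⟨U, hUc, hUel, -⟩ := unipotent_facts F 3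
  set V : Subgroup G := (((U : Subgroup _).map (MonoidHom.inr (Multiplicative (ZMod 2)) _)).map
    e.symm.toMonoidHom).map (L.subtype.comp (centralizer ({t} : Set ↥L)).subtype)
  have hVc : Nat.card V = q := by
    rw [card_map_of_injective (f := L.subtype.comp (centralizer ({t} : Set ↥L)).subtype)
        (fun a b hab => Subtype.ext (Subtype.ext hab)),
      card_map_of_injective e.symm.injective,
      card_map_of_injective (fun a b hab => congrArg Prod.snd hab), hUc, hF]
  have hVexp : ∀ x ∈ V, x ^ 3 = 1 := by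
    rintro _ ⟨_, ⟨_, ⟨x, hx, rfl⟩, rfl⟩, rfl⟩
    rw [← map_pow, ← map_pow, ← map_pow, hUel.2 x hx, map_one, map_one, map_one]
  obtain ⟨P, hVP⟩ := (IsPGroup.of_card (n := k) hVc).exists_le_sylow
  have hP : IsElementaryAbelian 3 (P : Subgroup G) := by
    rcases S4023.result (fun A B hA hB hAB => h 3 Nat.prime_three A B hA hB hAB) P with
      hc | hc | ⟨h2, -⟩ | ⟨-, -, h27, -⟩
    · exfalso
      haveI := hc
      haveI : IsCyclic V := isCyclic_of_injective (inclusion hVP) (inclusion_injective hVP)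
      have h1 : Nat.card V ∣ 3 := by
        rw [← IsCyclic.exponent_eq_card]
        exact Monoid.exponent_dvd_of_forall_pow_eq_one fun x => Subtype.ext (hVexp x x.2)
      rw [hVc] at h1
      have := Nat.le_of_dvd (by norm_num) h1
      omega
    · exact hc
    · exact absurd h2 (by norm_num)
    · exfalso
      have h1 : q ^ 3 ∣ Nat.card (P : Subgroup G) := by
        rw [hqdef, ← pow_mul]
        exact P.pow_dvd_card_of_pow_dvd_card
          (by rw [pow_mul]; exact hq3L.trans (card_subgroup_dvd_card L))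
      rw [h27] at h1
      have := Nat.le_of_dvd (by norm_num) h1
      nlinarith [Nat.pow_le_pow_left hq27 3]
  have h3grp : ∀ R : Subgroup ↥L, IsPGroup 3 R →
      (∀ a ∈ R, a ^ 3 = 1) ∧ ∀ a ∈ R, ∀ b ∈ R, Commute a b := by
    intro R hR
    obtain ⟨P', hP'⟩ := (hR.map L.subtype).exists_le_sylow
    obtain ⟨g, rfl⟩ := MulAction.exists_smul_eq G P P'
    have hmem : ∀ a ∈ R, g⁻¹ * (a : G) * g ∈ (P : Subgroup G) := fun a ha => by
      obtain ⟨w, hw, hwa⟩ := hP' ⟨a, ha, rfl⟩
      have : g * w * g⁻¹ = (a : G) := hwa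
      rw [← this, show g⁻¹ * (g * w * g⁻¹) * g = w by group]; exact hw
    refine ⟨fun a ha => Subtype.ext ?_, fun a ha b hb => Subtype.ext ?_⟩
    · have h1 := hP.2 _ (hmem a ha)
      have h2 : g * (g⁻¹ * (a : G) * g) ^ 3 * g⁻¹ = (a : G) ^ 3 := by rw [← conj_pow]; group
      rw [h1, mul_one, mul_inv_cancel] at h2
      simpa using h2.symm
    · have h1 : (g⁻¹ * (a : G) * g) * (g⁻¹ * b * g) = (g⁻¹ * b * g) * (g⁻¹ * a * g) :=
        congrArg Subtype.val (hP.1.is_comm.comm (⟨_, hmem a ha⟩ : (P : Subgroup G)) ⟨_, hmem b hb⟩)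
      show (a : G) * b = b * a
      calc (a : G) * b = g * ((g⁻¹ * a * g) * (g⁻¹ * b * g)) * g⁻¹ := by group
        _ = (b : G) * a := by rw [h1]; group
  have h3el : ∀ a : ↥L, a ^ q ^ 3 = 1 → a ^ 3 = 1 := by
    intro a ha
    obtain ⟨i, -, hi⟩ := (Nat.dvd_prime_pow Nat.prime_three).1
      (show orderOf a ∣ 3 ^ (k * 3) by rw [pow_mul]; exact orderOf_dvd_of_pow_eq_one ha)
    exact (h3grp (zpowers a) (IsPGroup.of_card (n := i) (by rw [Nat.card_zpowers, hi]))).1 a
      (mem_zpowers a)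
  -- Frobenius
  have hnX : q ^ 3 ∣ Nat.card {x : ↥L // orderOf x = 3} + 1 := by
    rw [← card_pow_three]
    refine (H84.dvd_card_pow_eq_one hq3L).trans (dvd_of_eq (Nat.card_congr ?_))
    refine Equiv.subtypeEquivRight fun a => ⟨h3el a, fun ha => ?_⟩
    rw [show q ^ 3 = 3 * (3 ^ (k * 3 - 1)) by rw [← pow_succ', ← pow_mul]; congr 1; omega,
      pow_mul, ha, one_pow]
  set C := centralizer ({t} : Set ↥L) with hCdef
  have hq2 : q % 2 = 1 := Nat.odd_iff.1 (Odd.pow (by decide))
  have hgcd : Nat.gcd 2 (Fintype.card F - 1) = 2 := Nat.gcd_eq_left (by rw [hF]; omega)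
  have hCc : Nat.card C = q * (q + 1) * (q - 1) := by
    have h2 := Linear.card_PSL_two_mul (F := F)
    rw [hgcd, hF] at h2
    rw [Nat.card_congr e.toEquiv, Nat.card_prod, Nat.card_congr Multiplicative.toAdd, Nat.card_zmod,
      h2, mul_assoc, ← Nat.sq_sub_sq, one_pow]
  have hm1 : Nat.card {c : C // orderOf c = 3} ≤ (q + 1) * (q - 1) := by
    refine le_trans ?_ (hF ▸ card_order_three_psl F)
    have hz : ∀ z : Multiplicative (ZMod 2), z ^ 3 = 1 → z = 1 := by decide
    have hfst : ∀ c : {c : C // orderOf c = 3}, (e c.1).1 = 1 := fun c => hz _ (by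
      rw [← Prod.pow_fst, ← map_pow, orderOf_dvd_iff_pow_eq_one.1 c.2.dvd, map_one]
      rfl)
    refine Nat.card_le_card_of_injective (fun c => ⟨(e c.1).2, ?_⟩) fun a b hab => ?_
    · have h1 : orderOf (e c.1) = 3 := (e.orderOf_eq _).trans c.2
      rwa [Prod.orderOf, hfst c, orderOf_one, Nat.lcm_one_left] at h1
    · exact Subtype.ext (e.injective (Prod.ext ((hfst a).trans (hfst b).symm)
        (congrArg Subtype.val hab)))
  set m := Nat.card {c : C // orderOf c = 3} with hmdef
  have hmq : q ∣ m + 1 := by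
    rw [hmdef, ← card_pow_three]
    refine (H84.dvd_card_pow_eq_one (hCc ▸ (dvd_mul_right _ _).mul_right _ : q ∣ Nat.card C)).trans
      (dvd_of_eq (Nat.card_congr ?_))
    refine Equiv.subtypeEquivRight fun a => ⟨fun ha => Subtype.ext ?_, fun ha => ?_⟩
    · refine h3el a ?_
      rw [show q ^ 3 = q * q ^ 2 by ring, pow_mul]
      have := congrArg Subtype.val ha
      simp only [SubmonoidClass.coe_pow, OneMemClass.coe_one] at this
      rw [this, one_pow]
    · rw [show q = 3 * 3 ^ (k - 1) by rw [← pow_succ', hqdef]; congr 1; omega, pow_mul, ha, one_pow]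
  -- the pairs
  set S2 := {s : ↥L // orderOf s = 2}
  have hnT : Nat.card S2 * Nat.card C = Nat.card ↥L := by
    have hset : MulAction.orbit (ConjAct ↥L) t = {s : ↥L | orderOf s = 2} := by
      ext s
      rw [ConjAct.mem_orbit_conjAct, Set.mem_ofPred_eq]
      refine ⟨fun hs => ?_, fun hs => (hfus s hs).symm⟩
      obtain ⟨c, hc⟩ := isConj_iff.1 hs
      rw [← ht, ← hc]
      exact ((MulAut.conj c).orderOf_eq s).symm
    have h1 := MulAction.index_stabilizer (G := ConjAct ↥L) (X := ↥L) t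
    rw [hset, ConjAct.stabilizer_eq_centralizer] at h1
    rw [show Nat.card S2 = Set.ncard {s : ↥L | orderOf s = 2} from rfl, ← h1, mul_comm]
    exact card_mul_index C
  let Pr := Σ s : S2, {x : ↥L // orderOf x = 3 ∧ Commute (s : ↥L) x}
  have hsum1 : Nat.card Pr = Nat.card S2 * m := by
    haveI := Fintype.ofFinite S2
    rw [Nat.card_sigma]
    have hconst : ∀ s : S2, Nat.card {x : ↥L // orderOf x = 3 ∧ Commute (s : ↥L) x} = m := by
      intro s
      obtain ⟨g, hg⟩ := isConj_iff.1 (hfus s s.2)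
      refine Nat.card_congr ((Equiv.subtypeEquiv (MulAut.conj g⁻¹).toEquiv
        (q := fun x : ↥L => x ∈ C ∧ orderOf x = 3) fun x => ?_).trans
        ((Equiv.subtypeSubtypeEquivSubtypeInter (fun x : ↥L => x ∈ C)
          (fun x : ↥L => orderOf x = 3)).symm.trans
        (Equiv.subtypeEquivRight fun c => by rw [Subgroup.orderOf_coe])))
      have h0 : t = (MulAut.conj g⁻¹ : MulAut ↥L) s := by rw [← hg]; simp [mul_assoc]
      show _ ↔ (MulAut.conj g⁻¹ : MulAut ↥L) x ∈ C ∧ orderOf ((MulAut.conj g⁻¹ : MulAut ↥L) x) = 3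
      rw [MulEquiv.orderOf_eq, hCdef, mem_centralizer_singleton_iff, h0, ← map_mul, ← map_mul,
        (MulAut.conj g⁻¹).injective.eq_iff]
      exact ⟨fun hx => ⟨hx.2.symm.eq, hx.1⟩, fun hx => ⟨hx.2, Commute.symm hx.1⟩⟩
    rw [Finset.sum_congr rfl fun s _ => hconst s, Finset.sum_const, Finset.card_univ,
      smul_eq_mul, Nat.card_eq_fintype_card]
  obtain ⟨T, hTc⟩ := Sylow.exists_subgroup_card_pow_prime 3 (n := k * 3)
    (show 3 ^ (k * 3) ∣ Nat.card ↥L by rw [pow_mul]; exact hq3L)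
  have hTp : IsPGroup 3 T := IsPGroup.of_card hTc
  obtain ⟨x₀, hx₀T, hx₀1⟩ := T.bot_or_exists_ne_one.resolve_left fun hb => by
    rw [hb, card_bot] at hTc
    exact absurd hTc.symm (Nat.one_lt_pow (by omega) (by norm_num)).ne'
  have hx₀ : orderOf x₀ = 3 := orderOf_eq_prime ((h3grp T hTp).1 x₀ hx₀T) hx₀1
  let I : G → ℕ := fun y => Nat.card {s : S2 // Commute ((s : ↥L) : G) y}
  have hI : ∀ x : ↥L, orderOf x = 3 → I x = I x₀ := by
    intro x hx
    obtain ⟨g, hg⟩ := h 3 Nat.prime_three (zpowers (x₀ : G)) (zpowers (x : G))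
      (IsPGroup.of_card (n := 1) (by rw [Nat.card_zpowers, Subgroup.orderOf_coe, hx₀, pow_one]))
      (IsPGroup.of_card (n := 1) (by rw [Nat.card_zpowers, Subgroup.orderOf_coe, hx, pow_one]))
      (by rw [Nat.card_zpowers, Nat.card_zpowers, Subgroup.orderOf_coe, Subgroup.orderOf_coe, hx₀, hx])
    have hgx : (zpowers (x : G)) = zpowers (g * (x₀ : G) * g⁻¹) := by
      rw [hg, MonoidHom.map_zpowers]; rfl
    have hcom : ∀ y : G, Commute y (x : G) ↔ Commute y (g * (x₀ : G) * g⁻¹) := fun y => by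
      constructor
      · intro hy
        obtain ⟨i, hi⟩ := mem_zpowers_iff.1 (hgx ▸ mem_zpowers (g * (x₀ : G) * g⁻¹) :
          g * (x₀ : G) * g⁻¹ ∈ zpowers (x : G))
        exact hi ▸ hy.zpow_right i
      · intro hy
        obtain ⟨i, hi⟩ := mem_zpowers_iff.1 (hgx ▸ mem_zpowers (x : G) :
          (x : G) ∈ zpowers (g * (x₀ : G) * g⁻¹))
        exact hi ▸ hy.zpow_right i
    refine (Nat.card_congr (Equiv.subtypeEquiv (Equiv.subtypeEquiv
      (MulAut.conjNormal (H := L) g).toEquiv (q := fun s : ↥L => orderOf s = 2)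
      fun s => by rw [MulEquiv.toEquiv_eq_coe, EquivLike.coe_coe, MulEquiv.orderOf_eq])
      fun s => ?_)).symm
    rw [hcom]
    show Commute ((s : ↥L) : G) x₀ ↔ Commute (g * ((s : ↥L) : G) * g⁻¹) (g * (x₀ : G) * g⁻¹)
    exact (Commute.conj_iff g).symm
  have hsum2 : Nat.card Pr = Nat.card {x : ↥L // orderOf x = 3} * I x₀ := by
    haveI := Fintype.ofFinite {x : ↥L // orderOf x = 3}
    let E : Pr ≃ Σ x : {x : ↥L // orderOf x = 3}, {s : S2 // Commute ((s : ↥L) : G) ((x : ↥L) : G)} :=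
      { toFun := fun p : Pr => ⟨⟨p.2.1, p.2.2.1⟩,
          ⟨p.1, p.2.2.2.map L.subtype⟩⟩
        invFun := fun p => ⟨p.2.1, ⟨p.1.1, p.1.2, Commute.of_map L.subtype_injective p.2.2⟩⟩
        left_inv := fun _ => rfl
        right_inv := fun _ => rfl }
    rw [Nat.card_congr E, Nat.card_sigma,
      Finset.sum_congr rfl fun (x : {x : ↥L // orderOf x = 3}) _ => (hI x.1 x.2 :
        Nat.card {s : S2 // Commute ((s : ↥L) : G) ((x : ↥L) : G)} = I x₀),
      Finset.sum_const, Finset.card_univ, smul_eq_mul, Nat.card_eq_fintype_card]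
  have hI2 : q ^ 2 ∣ I x₀ := by
    letI : MulAction ↥T {s : S2 // Commute ((s : ↥L) : G) x₀} :=
      { smul := fun a s => ⟨⟨(a : ↥L) * s.1.1 * (a : ↥L)⁻¹, by
            exact ((MulAut.conj (a : ↥L)).orderOf_eq s.1.1).trans s.1.2⟩, by
            have h1 : Commute ((a : ↥L) : G) x₀ :=
              congrArg Subtype.val ((h3grp T hTp).2 a a.2 x₀ hx₀T).eq
            exact (h1.mul_left s.2).mul_left h1.inv_left⟩
        one_smul := fun s => Subtype.ext (Subtype.ext (show
          ((1 : ↥T) : ↥L) * s.1.1 * ((1 : ↥T) : ↥L)⁻¹ = s.1.1 by simp))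
        mul_smul := fun a b s => Subtype.ext (Subtype.ext (show
          ((a * b : ↥T) : ↥L) * s.1.1 * ((a * b : ↥T) : ↥L)⁻¹ =
            (a : ↥L) * ((b : ↥L) * s.1.1 * (b : ↥L)⁻¹) * (a : ↥L)⁻¹ by simp [mul_assoc])) }
    refine H29.OW.dvd_card_of_orbits' (K := ↥T) _ fun s => ?_
    have hos := H29.OW.card_orbit_mul_stab (K := ↥T) s
    rw [hTc, pow_mul, ← hqdef] at hos
    set St := MulAction.stabilizer ↥T s
    have hSt : Nat.card St ∣ q := by
      obtain ⟨g, hg⟩ := isConj_iff.1 (hfus s.1.1 s.1.2)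
      let f : St →* C := ((MulAut.conj g⁻¹).toMonoidHom.comp (T.subtype.comp St.subtype)).codRestrict C
        fun a => by
          rw [hCdef, mem_centralizer_singleton_iff]
          have h1 : ((a : ↥T) : ↥L) * s.1.1 * ((a : ↥T) : ↥L)⁻¹ = s.1.1 :=
            congrArg (fun z : {s : S2 // Commute ((s : ↥L) : G) x₀} => z.1.1) a.2
          have h0 : t = (MulAut.conj g⁻¹ : MulAut ↥L) s.1.1 := by rw [← hg]; simp [mul_assoc]
          show (MulAut.conj g⁻¹ : MulAut ↥L) ((a : ↥T) : ↥L) * t =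
            t * (MulAut.conj g⁻¹ : MulAut ↥L) ((a : ↥T) : ↥L)
          rw [h0, ← map_mul, ← map_mul, mul_inv_eq_iff_eq_mul.1 h1]
      have hf : Function.Injective f := (MonoidHom.injective_codRestrict _ _ _).2
        ((MulAut.conj g⁻¹).injective.comp (T.subtype_injective.comp St.subtype_injective))
      have h1 : Nat.card St ∣ q * (q + 1) * (q - 1) := hCc ▸ card_dvd_of_injective f hf
      have h2 : Nat.card St ∣ q ^ 3 := ⟨_, by rw [← hos]; ring⟩
      have hco : (Nat.card St).Coprime ((q + 1) * (q - 1)) := by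
        refine Nat.Coprime.coprime_dvd_left h2 (Nat.Coprime.pow_left 3 ?_)
        refine Nat.Coprime.mul_right (by simp) ?_
        exact Nat.coprime_self_sub_right (by omega) |>.2 (Nat.coprime_one_right _)
      exact hco.dvd_of_dvd_mul_right (mul_assoc q _ _ ▸ h1)
    obtain ⟨c, hc⟩ := hSt
    refine ⟨c, Nat.eq_of_mul_eq_mul_right (Nat.card_pos (α := St)) ?_⟩
    rw [hos, hc]
    ring
  obtain ⟨d, hd⟩ := hI2
  refine no_solution hq27 hm1 hmq hnX (d := d) ?_
  have hkey := hsum1.symm.trans hsum2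
  rw [hd] at hkey
  generalize Nat.card {x : ↥L // orderOf x = 3} = nX at hkey ⊢
  have h1 : (Nat.card S2 : ℤ) * (q * (q + 1) * (q - 1)) = q ^ 3 * (q ^ 3 + 1) * (q - 1) := by
    have := hnT
    rw [hcard, hCc] at this
    have hz := congrArg (Nat.cast (R := ℤ)) this
    push_cast [Nat.cast_sub (show 1 ≤ q by omega)] at hz
    exact hz
  have h2 : (Nat.card S2 : ℤ) = q ^ 2 * (q * q - q + 1) := by
    have hne : (q : ℤ) * (q + 1) * (q - 1) ≠ 0 :=
      mul_ne_zero (mul_ne_zero (by omega) (by omega)) (by omega)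
    refine mul_right_cancel₀ hne ?_
    rw [h1]; ring
  have h3 : ((q : ℤ) * q - q + 1) * m = nX * d := by
    have hz := congrArg (Nat.cast (R := ℤ)) hkey
    push_cast at hz
    rw [h2] at hz
    refine mul_left_cancel₀ (show (q : ℤ) ^ 2 ≠ 0 by positivity) ?_
    linear_combination hz
  have hsub : m ≤ q * m := Nat.le_mul_of_pos_left _ (by omega)
  have h4 : q * q * m + m = nX * d + q * m := by
    zify
    linear_combination h3
  omega

end Cfsg.Agent.H80.EqualOrder
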