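import Cfsg.Agent.H80.EqualOrder.Socle
import Cfsg.Agent.H80.EqualOrder.Quaternion
import Cfsg.Agent.H80.EqualOrder.ReeKill
import Cfsg.Agent.H80.EqualOrder.JanOne
import Cfsg.Agent.H80.GW.RankOne
import Cfsg.Agent.H10.Walter.Final
import Cfsg.Agent.H28.WardCons.Basic
import Cfsg.Agent.H84.HallNum.Basic
import Cfsg.Agent.S0252
import Cfsg.Agent.S0253

/-!
# Groups in which `p`-subgroups of equal order are conjugate: the list
-/

set_option autoImplicit false
set_option linter.style.haveILetI false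

namespace Cfsg.Agent.H80.EqualOrder

open Subgroup Cfsg Matrix

universe u

variable {G : Type u} [Group G] [Finite G]

/-- `PSL₂(p)`, `p ≥ 5`, or `PSL₂(p³)`, with `p ≡ 3, 5 (mod 8)`. -/
def IsOddType (X : Type u) [Group X] : Prop :=
  ∃ (p : ℕ) (_ : Fact p.Prime), (p % 8 = 3 ∨ p % 8 = 5) ∧
    ((5 ≤ p ∧ Nonempty (X ≃* ProjectiveSpecialLinearGroup (Fin 2) (ZMod p))) ∨
      Nonempty (X ≃* ProjectiveSpecialLinearGroup (Fin 2) (GaloisField p 3)))

theorem EqPOrd.nonnormal (h : EqPOrd G) (hR : H28.WardCons.TypeRCentralizer.{u})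
    (hWard : H28.WardCons.WardHyp.{u}) (hO : oddCore G = ⊥) (S : Sylow 2 G)
    (hel : IsElementaryAbelian 2 (S : Subgroup G)) (hSn : ¬ (S : Subgroup G).Normal) {n : ℕ}
    (hn : Nat.card (S : Subgroup G) = 2 ^ n) :
    IsOddType G ∨
      (n = 3 ∧ Nonempty (G ≃* ProjectiveSpecialLinearGroup (Fin 2) (GaloisField 2 3))) ∨
      (n = 5 ∧
        Nonempty (G ≃* MulAut (ProjectiveSpecialLinearGroup (Fin 2) (GaloisField 2 5)))) ∨
      (n = 3 ∧ IsJ1 G) := by
  haveI : Fact (Nat.Prime 2) := ⟨Nat.prime_two⟩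
  obtain ⟨L, hLn, hodd, hSL, hs, hna, hC⟩ := h.exists_socle hO S hel hSn
  haveI := hLn
  have hrel : Odd ((S : Subgroup G).relIndex L) :=
    Odd.of_dvd_nat (odd_index S) (relIndex_dvd_index_of_le hSL)
  have hLcard : Nat.card L = 2 ^ n * (S : Subgroup G).relIndex L := by
    rw [← hn, ← relIndex_bot_left, ← relIndex_bot_left, relIndex_mul_relIndex ⊥ _ _ bot_le hSL]
  have hab : H10.Walter.AbSyl ↥L := H10.Walter.absyl_of_sylow (S.subtype hSL)
    ⟨⟨fun a b => Subtype.ext (Subtype.ext (by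
      have h1 := congrArg Subtype.val (hel.1.is_comm.comm
        (⟨_, mem_subgroupOf.1 a.2⟩ : (S : Subgroup G)) ⟨_, mem_subgroupOf.1 b.2⟩)
      exact h1))⟩⟩
  rcases H10.Walter.walterHyp ↥L hs hna hab with
    ⟨F, _, _, k, hk, hF, ⟨e⟩⟩ | ⟨F, _, _, h5, h8, ⟨e⟩⟩ | hT
  · obtain ⟨hLc, hdiv, -⟩ := psl_index hO L hodd hk hF e
    have hkn : k = n := pow_two_mul_odd_inj (m := 2 ^ (2 * k) - 1)
      (Nat.Even.sub_odd Nat.one_le_two_pow (Nat.even_pow.2 ⟨even_two, by omega⟩) odd_one) hrel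
      (by rw [← hLc, hLcard])
    subst hkn
    rcases (show k = 2 ∨ 3 ≤ k by omega) with rfl | h3
    · left
      have hi : L.index = 1 := by
        rcases (Nat.dvd_prime Nat.prime_two).1 hdiv with h1 | h1
        · exact h1
        · rw [h1] at hodd; exact absurd hodd (by decide)
      haveI : Fact (Nat.Prime 5) := ⟨by norm_num⟩
      obtain ⟨e4⟩ := S0252.result (F := F) (by rw [hF]; rfl)
      obtain ⟨e5⟩ := S0253.result (F := ZMod 5) (ZMod.card 5)
      exact ⟨5, inferInstance, Or.inr rfl, Or.inl ⟨le_rfl, ⟨(((Subgroup.topEquiv.symm.trans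
        (MulEquiv.subgroupCongr (index_eq_one.1 hi).symm)).trans e).trans e4).trans e5.symm⟩⟩⟩
    · rcases h.normalizer_shape S hel h3 hn with ⟨rfl, -⟩ | ⟨rfl, -⟩
      · exact Or.inr (Or.inl ⟨rfl, h.three_of_psl hO L hodd hF e⟩)
      · exact Or.inr (Or.inr (Or.inl ⟨rfl, h.five_of_psl hO S hel hn L hodd hF e⟩))
  · exact Or.inl (h.odd_psl L hodd hC h8 h5 e)
  · obtain ⟨t, F, _, _, ht, hF5, -, ⟨e⟩⟩ := hR ↥L hs hna hab hT
    rcases hWard ↥L hs (fun P a b => (hab P).is_comm.comm a b) F (by omega) t ht ⟨e⟩ with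
      ⟨m, hm, hF, hc⟩ | ⟨-, hJ⟩
    · exact (h.no_ree L (k := 2 * m + 1) (by omega) hF hc t ht (fun s hs2 => hT.2.1 t s ht hs2)
        e).elim
    · refine Or.inr (Or.inr (Or.inr ⟨?_, isJ1_of_normal L hC hJ⟩))
      exact pow_two_mul_odd_inj hrel (show Odd 21945 by decide) (hLcard.symm.trans hJ.2)

/-- A double cover with a single involution in a Sylow subgroup is `SL₂`. -/
theorem sl_of_double_cover (S : Sylow 2 G) (e : (S : Subgroup G) ≃* QuaternionGroup 2)
    (hZ : Nat.card (Subgroup.center G) = 2) {F : Type} [Field F] [Fintype F]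
    (hodd : Odd (Fintype.card F)) (h5 : 5 ≤ Fintype.card F)
    (eq : G ⧸ Subgroup.center G ≃* ProjectiveSpecialLinearGroup (Fin 2) F) :
    Nonempty (G ≃* SpecialLinearGroup (Fin 2) F) := by
  haveI : Fact (Nat.Prime 2) := ⟨Nat.prime_two⟩
  set π : G →* ProjectiveSpecialLinearGroup (Fin 2) F :=
    eq.toMonoidHom.comp (QuotientGroup.mk' (Subgroup.center G)) with hπdef
  have hπ : Function.Surjective π := eq.surjective.comp (QuotientGroup.mk'_surjective _)
  have hker : π.ker = Subgroup.center G := by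
    ext x
    rw [MonoidHom.mem_ker, hπdef, MonoidHom.comp_apply, MulEquiv.coe_toMonoidHom,
      map_eq_one_iff eq eq.injective]
    exact QuotientGroup.eq_one_iff x
  have hPSL : commutator (ProjectiveSpecialLinearGroup (Fin 2) F) = ⊤ := by
    have hsl : commutator (SpecialLinearGroup (Fin 2) F) = ⊤ := by
      refine Linear.commutator_SL_eq_top (Or.inr ?_)
      obtain ⟨s, hs0, hs⟩ := Linear.Mult.exists_sq_ne_one (F := F) (by omega) (by omega)
      exact ⟨s, hs0, hs⟩
    have hp : Function.Surjective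
        (QuotientGroup.mk' (Subgroup.center (SpecialLinearGroup (Fin 2) F))) :=
      QuotientGroup.mk'_surjective _
    have h1 := Subgroup.map_commutator ⊤ ⊤
      (QuotientGroup.mk' (Subgroup.center (SpecialLinearGroup (Fin 2) F)))
    rw [Subgroup.map_top_of_surjective _ hp] at h1
    exact h1.symm.trans (by
      rw [show ⁅(⊤ : Subgroup (SpecialLinearGroup (Fin 2) F)), ⊤⁆ = ⊤ from hsl,
        Subgroup.map_top_of_surjective _ hp])
  set D := commutator G
  have hDπ : D.map π = ⊤ := by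
    have h1 := Subgroup.map_commutator ⊤ ⊤ π
    rw [Subgroup.map_top_of_surjective _ hπ] at h1
    exact h1.trans hPSL
  have h2 : 2 ∣ Nat.card D := by
    refine dvd_trans ?_ (hDπ ▸ D.card_map_dvd π :
      Nat.card (⊤ : Subgroup (ProjectiveSpecialLinearGroup (Fin 2) F)) ∣ Nat.card D)
    have h2' := Linear.card_PSL_two_mul (F := F)
    have hq : Fintype.card F % 2 = 1 := Nat.odd_iff.1 hodd
    rw [Nat.gcd_eq_left (by omega : 2 ∣ Fintype.card F - 1)] at h2'
    rw [card_top]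
    have hsq : Fintype.card F ^ 2 - 1 = (Fintype.card F + 1) * (Fintype.card F - 1) := by
      simpa using Nat.sq_sub_sq (Fintype.card F) 1
    have h4 : 4 ∣ 2 * Nat.card (ProjectiveSpecialLinearGroup (Fin 2) F) := by
      rw [h2', hsq]
      exact dvd_mul_of_dvd_right (Nat.mul_dvd_mul (by omega : 2 ∣ Fintype.card F + 1)
        (by omega : 2 ∣ Fintype.card F - 1)) _
    omega
  obtain ⟨d, hd⟩ := exists_prime_orderOf_dvd_card' (G := ↥D) 2 h2
  have hdo : orderOf (d : G) = 2 := by rw [Subgroup.orderOf_coe, hd]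
  obtain ⟨S', hS'⟩ := (IsPGroup.of_card (p := 2) (G := zpowers (d : G)) (n := 1) (by
    rw [Nat.card_zpowers, hdo, pow_one])).exists_le_sylow
  obtain ⟨e'⟩ : Nonempty ((S' : Subgroup G) ≃* QuaternionGroup 2) := ⟨(S'.equiv S).trans e⟩
  have hZS : Subgroup.center G ≤ S' :=
    (IsPGroup.of_card (p := 2) (G := Subgroup.center G) (n := 1) (by rw [hZ]; rfl)).le_sylow_of_normal S'
  have hZD : Subgroup.center G ≤ D := fun z hz => by
    by_cases hz1 : z = 1
    · exact hz1 ▸ one_mem D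
    have hz2 : z ^ 2 = 1 :=
      orderOf_dvd_iff_pow_eq_one.1 (hZ ▸ (Subgroup.center G).orderOf_dvd_natCard hz)
    have hd2 : (d : G) ^ 2 = 1 := hdo ▸ pow_orderOf_eq_one (d : G)
    have hd1 : (d : G) ≠ 1 := fun hh => by rw [hh, orderOf_one] at hdo; omega
    have : (⟨z, hZS hz⟩ : (S' : Subgroup G)) = ⟨d, hS' (mem_zpowers _)⟩ :=
      e'.injective (q8_unique.1 _ _
        (by rw [← map_pow, show (⟨z, hZS hz⟩ : (S' : Subgroup G)) ^ 2 = 1 from Subtype.ext hz2, map_one])
        (by rw [← map_pow, show (⟨(d : G), hS' (mem_zpowers _)⟩ : (S' : Subgroup G)) ^ 2 = 1 from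
          Subtype.ext hd2, map_one])
        (fun hh => hz1 (congrArg Subtype.val ((map_eq_one_iff _ e'.injective).1 hh)))
        (fun hh => hd1 (congrArg Subtype.val ((map_eq_one_iff _ e'.injective).1 hh))))
    rw [show z = (d : G) from congrArg Subtype.val this]
    exact d.2
  haveI : Group.IsPerfect G := ⟨eq_top_iff.2 fun g _ => by
    obtain ⟨c, hc, hcg⟩ : π g ∈ D.map π := hDπ ▸ mem_top _
    have hm : c⁻¹ * g ∈ D :=
      hZD (hker ▸ MonoidHom.mem_ker.2 (by rw [map_mul, map_inv, hcg, inv_mul_cancel]))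
    show g ∈ D
    simpa using mul_mem hc hm⟩
  exact H80.GW.nonempty_SL_of_double_cover hodd (by omega) π hπ hker.le (hker ▸ hZ)

/-- The list for a group with trivial odd core. -/
theorem EqPOrd.list (h : EqPOrd G) (hR : H28.WardCons.TypeRCentralizer.{u})
    (hWard : H28.WardCons.WardHyp.{u}) (hO : oddCore G = ⊥) :
    (IsCyclic G ∧ IsPGroup 2 G) ∨
    Nonempty (G ≃* affineGroup (GaloisField 2 3)) ∨
    Nonempty (G ≃* semiaffineGroup (GaloisField 2 3)) ∨
    Nonempty (G ≃* semiaffineGroup (GaloisField 2 5)) ∨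
    IsJ1 G ∨
    Nonempty (G ≃* ProjectiveSpecialLinearGroup (Fin 2) (GaloisField 2 3)) ∨
    Nonempty (G ≃* MulAut (ProjectiveSpecialLinearGroup (Fin 2) (GaloisField 2 5))) ∨
    (∃ (p : ℕ) (_ : Fact p.Prime), (p % 8 = 3 ∨ p % 8 = 5) ∧
      (Nonempty (G ≃* ProjectiveSpecialLinearGroup (Fin 2) (ZMod p)) ∨
       Nonempty (G ≃* ProjectiveSpecialLinearGroup (Fin 2) (GaloisField p 3)) ∨
       Nonempty (G ≃* SpecialLinearGroup (Fin 2) (ZMod p)) ∨
       Nonempty (G ≃* SpecialLinearGroup (Fin 2) (GaloisField p 3)))) := by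
  haveI : Fact (Nat.Prime 2) := ⟨Nat.prime_two⟩
  haveI h3f : Fact (Nat.Prime 3) := ⟨Nat.prime_three⟩
  obtain ⟨S⟩ : Nonempty (Sylow 2 G) := inferInstance
  have hcyc : IsCyclic ↥(S : Subgroup G) → IsCyclic G ∧ IsPGroup 2 G := fun hc => by
    haveI := hc
    have h2 := H63.GW.isPGroup_of_complement hO (H63.GW.hasNormalPComplement_of_cyclic S)
    have htop : (S : Subgroup G) = ⊤ := (S.is_maximal' (h2.to_subgroup ⊤) le_top).symm
    exact ⟨((MulEquiv.subgroupCongr htop).trans Subgroup.topEquiv).isCyclic.1 hc, h2⟩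
  rcases S4023.result (fun A B hA hB hAB => h 2 Nat.prime_two A B hA hB hAB) S with
    hc | hel | ⟨-, ⟨e⟩⟩ | ⟨hne, -⟩
  · exact Or.inl (hcyc hc)
  · obtain ⟨n, hn⟩ := S.isPGroup'.exists_card_eq
    rcases (show n ≤ 1 ∨ 2 ≤ n by omega) with hn1 | hn2
    · refine Or.inl (hcyc ?_)
      rcases Nat.le_one_iff_eq_zero_or_eq_one.1 hn1 with rfl | rfl
      · haveI : Subsingleton ↥(S : Subgroup G) := (Nat.card_eq_one_iff_unique.1 hn).1
        infer_instance
      · exact isCyclic_of_prime_card (p := 2) hn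
    by_cases hSn : (S : Subgroup G).Normal
    · rcases (show n = 2 ∨ 3 ≤ n by omega) with rfl | hn3
      · iterate 7 right
        refine ⟨3, h3f, Or.inl rfl, Or.inl ?_⟩
        obtain ⟨e4⟩ := h.two_normal hO S hel (by rw [hn]; rfl)
        obtain ⟨eA⟩ := H27.ProjLine.psl_two_equiv_alternating (F := ZMod 3) (n := 4)
          (by rw [ZMod.card]) (by
            have h2 := Linear.card_PSL_two_mul (F := ZMod 3)
            rw [ZMod.card] at h2
            exact h2)
        exact ⟨e4.trans eA.symm⟩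
      · have hN : normalizer ((S : Subgroup G) : Set G) = ⊤ := normalizer_eq_top_iff.2 hSn
        rcases h.normalizer_shape S hel hn3 hn with ⟨-, he1⟩ | ⟨-, ⟨e1⟩⟩
        · rcases he1 with he1 | he1
          · obtain ⟨e1⟩ := he1
            exact Or.inr (Or.inr (Or.inl (normalizer_iso hO S hN e1)))
          · obtain ⟨e1⟩ := he1
            exact Or.inr (Or.inl (normalizer_iso hO S hN e1))
        · exact Or.inr (Or.inr (Or.inr (Or.inl (normalizer_iso hO S hN e1))))
    · rcases h.nonnormal hR hWard hO S hel hSn hn with ⟨p, hp, hp8, he⟩ | ⟨-, he⟩ | ⟨-, he⟩ | ⟨-, he⟩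
      · iterate 7 right
        exact ⟨p, hp, hp8, he.elim (fun h1 => Or.inl h1.2) (fun h1 => Or.inr (Or.inl h1))⟩
      · iterate 5 right
        exact Or.inl he
      · iterate 6 right
        exact Or.inl he
      · iterate 4 right
        exact Or.inl he
  · iterate 7 right
    rcases quaternion_cases hO S e (IsOddType (G ⧸ Subgroup.center G)) (fun T hOq hel hT => by
      by_cases hTn : (T : Subgroup (G ⧸ Subgroup.center G)).Normal
      · haveI := hTn
        exact Or.inl ⟨hTn, (h.quotient _).two_normal hOq T hel (by rw [hT]; rfl)⟩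
      · rcases (h.quotient _).nonnormal hR hWard hOq T hel hTn hT with
          h1 | ⟨h1, -⟩ | ⟨h1, -⟩ | ⟨h1, -⟩
        · exact Or.inr h1
        all_goals omega) with h3 | ⟨hZ, p, hp, hp8, he⟩
    · exact ⟨3, h3f, Or.inl rfl, Or.inr (Or.inr (Or.inl h3))⟩
    have hpodd : Odd p := Nat.odd_iff.2 (by omega)
    rcases he with ⟨h5, ⟨eq⟩⟩ | he'
    · exact ⟨p, hp, hp8, Or.inr (Or.inr (Or.inl (sl_of_double_cover S e hZ
        (by rw [ZMod.card]; exact hpodd) (by rw [ZMod.card]; exact h5) eq)))⟩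
    · obtain ⟨eq⟩ := he'
      haveI : Fintype (GaloisField p 3) := Fintype.ofFinite _
      have hc : Fintype.card (GaloisField p 3) = p ^ 3 := by
        rw [← Nat.card_eq_fintype_card, GaloisField.card p 3 (by norm_num)]
      exact ⟨p, hp, hp8, Or.inr (Or.inr (Or.inr (sl_of_double_cover S e hZ (hc ▸ hpodd.pow)
        (hc ▸ le_trans (by norm_num) (Nat.pow_le_pow_left hp.out.two_le 3)) eq)))⟩
  · exact absurd rfl hne

end Cfsg.Agent.H80.EqualOrder
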