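import Cfsg.Agent.H80.EqualOrder.Normal
import Cfsg.Agent.H24.Solv

/-!
# Equal order `p`-subgroups conjugate: the simple socle
-/

set_option autoImplicit false
set_option linter.style.haveILetI false

namespace Cfsg.Agent.H80.EqualOrder

open Subgroup Cfsg

universe u

variable {G : Type u} [Group G] [Finite G]

omit [Finite G] in
theorem mem_of_conj_mem {N : Subgroup G} [hN : N.Normal] {t s : G} (ht : t ∈ N)
    (h : ∃ g : G, g * t * g⁻¹ = s) : s ∈ N := by
  obtain ⟨g, rfl⟩ := h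
  exact hN.conj_mem t ht g

/-- Elements squaring to one in an abelian subgroup form a subgroup. -/
def involSubgroup {M : Subgroup G} (hab : ∀ a ∈ M, ∀ b ∈ M, a * b = b * a) : Subgroup G where
  carrier := {x | x ∈ M ∧ x ^ 2 = 1}
  one_mem' := ⟨one_mem M, one_pow 2⟩
  mul_mem' := fun {a b} ha hb => ⟨mul_mem ha.1 hb.1, by
    rw [(show Commute a b from hab a ha.1 b hb.1).mul_pow, ha.2, hb.2, one_mul]⟩
  inv_mem' := fun {a} ha => ⟨inv_mem ha.1, by rw [inv_pow, ha.2, inv_one]⟩

theorem exists_involution (hO : oddCore G = ⊥) (N : Subgroup G) [N.Normal] (hN : N ≠ ⊥) :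
    ∃ t ∈ N, orderOf t = 2 := by
  haveI : Fact (Nat.Prime 2) := ⟨Nat.prime_two⟩
  rcases Nat.even_or_odd (Nat.card N) with h | h
  · obtain ⟨a, ha⟩ := exists_prime_orderOf_dvd_card' (G := N) 2 (even_iff_two_dvd.1 h)
    exact ⟨a, a.2, by rw [Subgroup.orderOf_coe, ha]⟩
  · exact absurd (le_bot_iff.1 (hO ▸ Cores.le_oddCore h)) hN

variable (h : EqPOrd G) (hO : oddCore G = ⊥) (S : Sylow 2 G)
  (hel : IsElementaryAbelian 2 (S : Subgroup G)) (hSn : ¬ (S : Subgroup G).Normal)

include h hO hel hSn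

theorem EqPOrd.sylow_le (N : Subgroup G) [N.Normal] (hN : N ≠ ⊥) : (S : Subgroup G) ≤ N := by
  obtain ⟨t, ht, ht2⟩ := exists_involution hO N hN
  intro s hs
  by_cases hs1 : s = 1
  · exact hs1 ▸ one_mem N
  · exact mem_of_conj_mem ht (h.exists_conj ht2 (orderOf_eq_two hel hs hs1))

theorem EqPOrd.no_normal_two (R : Subgroup G) [hRn : R.Normal] (hR : IsPGroup 2 R) : R = ⊥ := by
  by_contra hne
  have hle := h.sylow_le hO S hel hSn R hne
  have : R = (S : Subgroup G) := S.is_maximal' hR hle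
  exact hSn (this ▸ hRn)

/-- A normal subgroup of a normal subgroup contains no nontrivial elementary abelian 2-subgroup
invariant in the latter. -/
theorem EqPOrd.invol_eq_bot (L : Subgroup G) [L.Normal] (M : Subgroup G) (hML : M ≤ L)
    (hMn : L ≤ normalizer (M : Set G)) (hab : ∀ a ∈ M, ∀ b ∈ M, a * b = b * a)
    {t : G} (ht : t ∈ M) : ¬ orderOf t = 2 := by
  intro ht2
  haveI : Fact (Nat.Prime 2) := ⟨Nat.prime_two⟩
  set R := (involSubgroup hab).subgroupOf L
  have hR : IsPGroup 2 R := fun x => ⟨1, Subtype.ext (Subtype.ext (by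
    simpa using (mem_subgroupOf.1 x.2).2))⟩
  haveI : R.Normal := ⟨fun x hx g => mem_subgroupOf.2 ⟨by
      simpa using (mem_normalizer_iff.1 (hMn g.2) _).1 (mem_subgroupOf.1 hx).1, by
      simp [conj_pow, (mem_subgroupOf.1 hx).2]⟩⟩
  haveI : ((pCore 2 ↥L).map L.subtype).Normal := Cores.map_subtype_normal
  have hbot : (pCore 2 ↥L).map L.subtype = ⊥ :=
    h.no_normal_two hO S hel hSn _ ((Cores.pCore_isPGroup).map _)
  have hmem : (⟨t, hML ht⟩ : L) ∈ pCore 2 ↥L :=
    Cores.le_pCore hR (mem_subgroupOf.2 ⟨ht, by rw [← ht2, pow_orderOf_eq_one]⟩)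
  have : t = 1 := mem_bot.1 (hbot ▸ ⟨⟨t, hML ht⟩, hmem, rfl⟩)
  rw [this, orderOf_one] at ht2
  omega

/-- When the Sylow subgroup is not normal the group has a simple socle of odd index. -/
theorem EqPOrd.exists_socle :
    ∃ L : Subgroup G, L.Normal ∧ Odd L.index ∧ (S : Subgroup G) ≤ L ∧ IsSimpleGroup ↥L ∧
      ¬ IsMulCommutative ↥L ∧ centralizer (L : Set G) = ⊥ := by
  have hS : (S : Subgroup G) ≠ ⊥ := fun hb => hSn (hb ▸ inferInstance)
  have htop : (⊤ : Subgroup G) ≠ ⊥ := fun hb => hS (le_bot_iff.1 (hb ▸ le_top))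
  obtain ⟨L, -, hLn, hL1, hmin⟩ := H24.exists_minimal_normal (⊤ : Subgroup G) inferInstance htop
  haveI := hLn
  obtain ⟨t₀, ht₀, ht₀2⟩ := exists_involution hO L hL1
  have hSL := h.sylow_le hO S hel hSn L hL1
  have hna : ¬ IsMulCommutative ↥L := fun hc => h.invol_eq_bot hO S hel hSn L L le_rfl le_normalizer
    (fun a ha b hb => congrArg Subtype.val (mul_comm' (⟨a, ha⟩ : L) ⟨b, hb⟩)) ht₀ ht₀2
  have hOL : oddCore ↥L = ⊥ := by
    haveI : (oddCore ↥L).Characteristic := Cores.pPrimeCore_characteristic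
    haveI : ((oddCore ↥L).map L.subtype).Normal := Cores.map_subtype_normal
    refine (map_eq_bot_iff_of_injective _ L.subtype_injective).1
      (le_bot_iff.1 (hO ▸ Cores.le_oddCore ?_))
    rw [card_map_of_injective L.subtype_injective]
    exact Cores.odd_card_oddCore
  haveI : Nontrivial L := (nontrivial_iff_ne_bot L).2 hL1
  have hsimple : IsSimpleGroup ↥L := by
    refine ⟨fun M₀ hM₀ => ?_⟩
    by_contra hcon
    push Not at hcon
    obtain ⟨M, ⟨hM1, hMlt, hMn⟩, hMmin⟩ :=
      (Set.toFinite {M : Subgroup G | M ≠ ⊥ ∧ M < L ∧ L ≤ normalizer (M : Set G)}).exists_minimal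
        ⟨M₀.map L.subtype, fun hb => hcon.1 ((map_eq_bot_iff_of_injective _ L.subtype_injective).1 hb),
          lt_of_le_of_ne (map_subtype_le _) fun he => hcon.2 (map_injective L.subtype_injective
            (by rw [he, ← MonoidHom.range_eq_map, range_subtype])),
          fun n hn => mem_normalizer_fintype fun x hx => by
            obtain ⟨m, hm, rfl⟩ := hx
            exact ⟨_, hM₀.conj_mem m hm ⟨n, hn⟩, rfl⟩⟩
    haveI : (M.subgroupOf L).Normal := (normal_subgroupOf_iff_le_normalizer hMlt.le).2 hMn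
    obtain ⟨a, ha, ha2⟩ := exists_involution hOL (M.subgroupOf L) (fun hb => hM1 (by
      rw [← inf_eq_left.2 hMlt.le, ← subgroupOf_map_subtype, hb, Subgroup.map_bot]))
    have haM : (a : G) ∈ M := mem_subgroupOf.1 ha
    have ha2' : orderOf (a : G) = 2 := by rw [Subgroup.orderOf_coe, ha2]
    obtain ⟨g, hg⟩ : ∃ g : G, M.map (MulAut.conj g).toMonoidHom ≠ M := by
      by_contra hall
      push Not at hall
      exact hMlt.ne ((hmin M ⟨fun m hm g => hall g ▸ ⟨m, hm, rfl⟩⟩ hMlt.le).resolve_left hM1)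
    have hcn : ∀ k : G, L ≤ normalizer ((M.map (MulAut.conj k).toMonoidHom : Subgroup G) : Set G) := by
      intro k n hn
      refine mem_normalizer_fintype fun x hx => ?_
      obtain ⟨m, hm, rfl⟩ := hx
      refine ⟨(k⁻¹ * n * k) * m * (k⁻¹ * n * k)⁻¹,
        (mem_normalizer_iff.1 (hMn (by simpa using hLn.conj_mem n hn k⁻¹)) m).1 hm, ?_⟩
      simp [mul_assoc]
    have hdisj : ∀ k : G, M.map (MulAut.conj k).toMonoidHom ≠ M →
        M.map (MulAut.conj k).toMonoidHom ⊓ M = ⊥ := by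
      intro k hk
      by_contra hne
      have hle := hMmin (y := M.map (MulAut.conj k).toMonoidHom ⊓ M)
        ⟨hne, lt_of_le_of_lt inf_le_right hMlt, fun n hn => mem_normalizer_fintype fun x hx =>
          ⟨(mem_normalizer_iff.1 (hcn k hn) x).1 hx.1, (mem_normalizer_iff.1 (hMn hn) x).1 hx.2⟩⟩
        inf_le_right
      exact hk (eq_of_le_of_card_ge (hle.trans inf_le_left)
        (card_map_of_injective (MulAut.conj k).injective).le).symm
    have hcomm : ∀ k : G, M.map (MulAut.conj k).toMonoidHom ≠ M →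
        ∀ x ∈ M.map (MulAut.conj k).toMonoidHom, ∀ m ∈ M, x * m = m * x := by
      intro k hk x hx m hm
      have hxL : x ∈ L := by
        obtain ⟨y, hy, rfl⟩ := hx
        exact hLn.conj_mem y (hMlt.le hy) k
      refine commutatorElement_eq_one_iff_mul_comm.1 (mem_bot.1 (hdisj k hk ▸ mem_inf.2 ⟨?_, ?_⟩))
      · rw [commutatorElement_def, show x * m * x⁻¹ * m⁻¹ = x * (m * x⁻¹ * m⁻¹) by group]
        exact mul_mem hx ((mem_normalizer_iff.1 (hcn k (hMlt.le hm)) _).1 (inv_mem hx))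
      · rw [commutatorElement_def]
        exact mul_mem ((mem_normalizer_iff.1 (hMn hxL) m).1 hm) (inv_mem hm)
    set b := g * (a : G) * g⁻¹ with hb
    have hbM : b ∈ M.map (MulAut.conj g).toMonoidHom := ⟨a, haM, rfl⟩
    have hab : Commute b a := hcomm g hg b hbM a haM
    have hb2 : b ^ 2 = 1 := by
      rw [hb, conj_pow, show (a : G) ^ 2 = 1 by rw [← ha2', pow_orderOf_eq_one], mul_one, mul_inv_cancel]
    have hbnM : b ∉ M := fun hm => by
      have : b = 1 := mem_bot.1 (hdisj g hg ▸ mem_inf.2 ⟨hbM, hm⟩)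
      rw [hb, conj_eq_one_iff] at this
      rw [this, orderOf_one] at ha2'
      omega
    have hc2 : orderOf (b * (a : G)) = 2 := by
      haveI : Fact (Nat.Prime 2) := ⟨Nat.prime_two⟩
      refine orderOf_eq_prime ?_ fun he => hbnM (eq_inv_of_mul_eq_one_left he ▸ inv_mem haM)
      rw [hab.mul_pow, hb2, ← ha2', pow_orderOf_eq_one, one_mul]
    obtain ⟨k, hk⟩ := h.exists_conj ha2' hc2
    have hcM : b * (a : G) ∈ M.map (MulAut.conj k).toMonoidHom := ⟨a, haM, hk⟩
    by_cases hkM : M.map (MulAut.conj k).toMonoidHom = M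
    · have hmm := mul_mem (hkM ▸ hcM) (inv_mem haM)
      rw [mul_inv_cancel_right] at hmm
      exact hbnM hmm
    have hcent : ∀ m ∈ M, (a : G) * m = m * a := fun m hm => by
      have h1 : (b * a) * m = m * (b * a) := hcomm k hkM _ hcM m hm
      have h2 : b * m = m * b := hcomm g hg b hbM m hm
      refine mul_left_cancel (a := b) ?_
      rw [← mul_assoc, h1, ← mul_assoc, ← h2, mul_assoc]
    set ZM := M ⊓ centralizer (M : Set G) with hZM
    have hZn : L ≤ normalizer (ZM : Set G) := fun n hn => mem_normalizer_fintype fun x hx =>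
      ⟨(mem_normalizer_iff.1 (hMn hn) x).1 hx.1, mem_centralizer_iff.2 fun m hm => by
        have hm' : n⁻¹ * m * n ∈ M := by
          simpa using (mem_normalizer_iff.1 (hMn (inv_mem hn)) m).1 hm
        calc m * (n * x * n⁻¹) = n * ((n⁻¹ * m * n) * x) * n⁻¹ := by group
          _ = n * (x * (n⁻¹ * m * n)) * n⁻¹ := by rw [mem_centralizer_iff.1 hx.2 _ hm']
          _ = n * x * n⁻¹ * m := by group⟩
    have haZ : (a : G) ∈ ZM := mem_inf.2 ⟨haM, mem_centralizer_iff.2 fun m hm => (hcent m hm).symm⟩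
    exact h.invol_eq_bot hO S hel hSn L ZM (inf_le_left.trans hMlt.le) hZn
      (fun x hx y hy => mem_centralizer_iff.1 hy.2 x hx.1) haZ ha2'
  refine ⟨L, hLn, Odd.of_dvd_nat (odd_index S) (index_dvd_of_le hSL), hSL, hsimple, hna, ?_⟩
  by_contra hne
  obtain ⟨c, hc, hc2⟩ := exists_involution hO (centralizer (L : Set G)) hne
  have ht₀c : t₀ ∈ centralizer (L : Set G) := mem_of_conj_mem hc (h.exists_conj hc2 ht₀2)
  exact h.invol_eq_bot hO S hel hSn L (L ⊓ centralizer (L : Set G)) inf_le_left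
    (fun n hn => mem_normalizer_fintype fun x hx =>
      ⟨hLn.conj_mem x hx.1 n, (inferInstance : (centralizer (L : Set G)).Normal).conj_mem x hx.2 n⟩)
    (fun x hx y hy => mem_centralizer_iff.1 hy.2 x hx.1) (mem_inf.2 ⟨ht₀, ht₀c⟩) ht₀2

end Cfsg.Agent.H80.EqualOrder
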